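import Cfsg.Agent.Lib.Local.SCAbelian.Basic
import Cfsg.Agent.Lib.Solv.Coprime
import Cfsg.Agent.Lib.Fusion.Cores
import Cfsg.Agent.Lib.Fusion.LocalBalance
import Cfsg.Agent.S1250
import Mathlib

/-!
Quotients of strongly closed elementary abelian two-subgroups.
-/

set_option autoImplicit false
set_option linter.style.haveILetI false
set_option maxHeartbeats 1000000

namespace Cfsg.Agent.Local.SCA

open Cfsg Cfsg.Agent.Fusion

universe u v

theorem exists_odd_pow {M : Type u} [Monoid M] {x : M} (hx : 0 < orderOf x) :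
    ∃ i : ℕ, Odd (orderOf (x ^ 2 ^ i)) ∧ (x ^ 2 ^ i = 1 ↔ ∃ j, orderOf x = 2 ^ j) := by
  obtain ⟨i, s, hs, he⟩ := Nat.exists_eq_two_pow_mul_odd hx.ne'
  refine ⟨i, ?_, ?_⟩
  · rw [orderOf_pow' _ (by positivity), he, Nat.gcd_eq_right (dvd_mul_right _ _),
      Nat.mul_div_cancel_left _ (by positivity)]
    exact hs
  · constructor
    · intro h
      obtain ⟨j, -, hj⟩ := (Nat.dvd_prime_pow Nat.prime_two).1 (orderOf_dvd_of_pow_eq_one h)
      exact ⟨j, hj⟩
    · rintro ⟨j, hj⟩
      refine orderOf_dvd_iff_pow_eq_one.1 ?_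
      have h1 : orderOf x ∣ 2 ^ i * s := he ▸ dvd_rfl
      rw [hj] at h1 ⊢
      exact (((Nat.coprime_two_left.2 hs).pow_left j).dvd_of_dvd_mul_right h1)

theorem pow_two_pow_ne_one {M : Type u} [Monoid M] {x : M} (hx : Odd (orderOf x)) (h1 : x ≠ 1) (i : ℕ) :
    x ^ 2 ^ i ≠ 1 := fun h => h1 <| orderOf_eq_one_iff.1 <|
  Nat.eq_one_of_dvd_coprimes ((Nat.coprime_two_left.2 hx).pow_left i) (orderOf_dvd_of_pow_eq_one h) dvd_rfl

section Descend

variable {V : Type u} {W : Type v} [Group V] [Group W] [Finite V]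

/-- The condition passes to a quotient by a fixed element of order two. -/
theorem Cond.descend {X : Subgroup (MulAut V)} (h : Cond X) (hel : ∀ x : V, x * x = 1)
    (π : V →* W) (hπ : Function.Surjective π) {z : V} (hz1 : z ≠ 1)
    (hker : ∀ x, π x = 1 ↔ x = 1 ∨ x = z) (hfix : ∀ α ∈ X, α z = z)
    {Y : Subgroup (MulAut W)} (hY : ∀ β ∈ Y, ∃ α ∈ X, ∀ x, π (α x) = β (π x)) : Cond Y := by
  classical
  haveI : Fact (Nat.Prime 2) := ⟨Nat.prime_two⟩
  haveI : Finite W := Finite.of_surjective π hπ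
  haveI : Finite (MulAut V) := Finite.of_injective (fun a => (a : V → V)) DFunLike.coe_injective
  have hd : ∀ a : X, ∀ x, π x = 1 → π ((a : MulAut V) x) = 1 := fun a x hx => by
    rcases (hker x).1 hx with rfl | rfl
    · rw [map_one, map_one]
    · rw [hfix a a.2]; exact hx
  obtain ⟨g, hg⟩ : ∃ g : X → (W → W), ∀ (a : X) (x : V), g a (π x) = π ((a : MulAut V) x) :=
    ⟨fun a w => π ((a : MulAut V) (Function.surjInv hπ w)), fun a x => by
      have h1 := hd a ((Function.surjInv hπ (π x))⁻¹ * x) (by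
        rw [map_mul, map_inv, Function.surjInv_eq hπ, inv_mul_cancel])
      rw [map_mul, map_inv, map_mul, map_inv, inv_mul_eq_one] at h1
      exact h1⟩
  let r : X →* MulAut W :=
    { toFun := fun a =>
        { toFun := g a
          invFun := g a⁻¹
          left_inv := fun w => by
            obtain ⟨x, rfl⟩ := hπ w
            rw [hg, hg]
            exact congrArg π (MulAut.inv_apply_self _ _ _)
          right_inv := fun w => by
            obtain ⟨x, rfl⟩ := hπ w
            rw [hg, hg]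
            exact congrArg π (MulAut.apply_inv_self _ _ _)
          map_mul' := fun w w' => by
            obtain ⟨x, rfl⟩ := hπ w
            obtain ⟨y, rfl⟩ := hπ w'
            rw [← map_mul, hg, hg, hg, map_mul, map_mul] }
      map_one' := MulEquiv.ext fun w => by
        obtain ⟨x, rfl⟩ := hπ w
        show g 1 (π x) = π x
        rw [hg]; rfl
      map_mul' := fun a b => MulEquiv.ext fun w => by
        obtain ⟨x, rfl⟩ := hπ w
        show g (a * b) (π x) = g a (g b (π x))
        rw [hg, hg, hg]; rfl }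
  have hr : ∀ (a : X) (x : V), r a (π x) = π ((a : MulAut V) x) := hg
  have hle : Y ≤ r.range := fun β hβ => by
    obtain ⟨α, hα, hαβ⟩ := hY β hβ
    refine ⟨⟨α, hα⟩, MulEquiv.ext fun w => ?_⟩
    obtain ⟨x, rfl⟩ := hπ w
    rw [hr]; exact hαβ x
  refine Cond.mono ?_ hle
  rcases h with h | h
  · exact Or.inl ((MonoidHom.range_eq_map r).symm ▸ (h.of_equiv (Subgroup.topEquiv (G := X)).symm).map r)
  have hK : ∀ a : X, r a = 1 → a * a = 1 := fun a ha => Subtype.ext <| MulEquiv.ext fun x => by
    have h1 := hr a x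
    rw [ha, MulAut.one_apply, eq_comm] at h1
    have h2 : π ((a : MulAut V) x * x) = 1 := by rw [map_mul, h1, ← map_mul, hel, map_one]
    show (a : MulAut V) ((a : MulAut V) x) = x
    rcases (hker _).1 h2 with e | e
    · have : (a : MulAut V) x = x := by rw [eq_inv_of_mul_eq_one_left e, inv_eq_of_mul_eq_one_right (hel x)]
      rw [this, this]
    · have : (a : MulAut V) x = z * x := by rw [← e, mul_assoc, hel, mul_one]
      rw [this, map_mul, hfix a a.2, this, ← mul_assoc, hel, one_mul]
  have hKp : IsPGroup 2 r.ker := fun a => ⟨1, Subtype.ext (by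
    rw [pow_one, pow_two]; exact hK a a.2)⟩
  have hodd_ker : ∀ a : X, Odd (orderOf a) → r a = 1 → a = 1 := fun a ho ha => by
    refine orderOf_eq_one_iff.1 (Nat.eq_one_of_dvd_coprimes (Nat.coprime_two_left.2 ho) ?_ dvd_rfl)
    exact orderOf_dvd_of_pow_eq_one (by rw [pow_two]; exact hK a ha)
  have hlift : ∀ a' : X, Odd (orderOf (r a')) → r a' ≠ 1 →
      ∃ a : X, Odd (orderOf a) ∧ a ≠ 1 ∧ ∃ k : ℕ, r a = r a' ^ k := by
    intro a' ho h1
    obtain ⟨i, hi, -⟩ := exists_odd_pow (orderOf_pos a')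
    refine ⟨a' ^ 2 ^ i, hi, fun e => pow_two_pow_ne_one ho h1 i ?_, 2 ^ i, map_pow _ _ _⟩
    rw [← map_pow, e, map_one]
  refine Or.inr ⟨?_, ?_, ?_⟩
  · exact (Subgroup.card_range_dvd r).trans h.dvd
  · rintro _ ⟨a', rfl⟩ _ ⟨b', rfl⟩ ho h1 h2 h3 hc
    obtain ⟨a, hao, ha1, k, hk⟩ := hlift a' ho h1
    have hca : r a * r b' = r b' * r a := by
      rw [hk]; exact (Commute.pow_left hc k).eq
    obtain ⟨i, hi⟩ := hKp.exists_card_eq
    obtain ⟨d, hd, hn⟩ := Solv.exists_fixed_in_coset (Subgroup.zpowers a) r.ker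
      (by rw [Subgroup.normalizer_eq_top]; exact le_top)
      (by rw [Nat.card_zpowers, hi]; exact (Nat.coprime_two_right.2 hao).pow_right _)
      (Or.inl (Group.isSolvable_of_comm fun s t => Subtype.ext (by
        obtain ⟨_, p, rfl⟩ := s
        obtain ⟨_, q, rfl⟩ := t
        exact ((Commute.refl a).zpow_zpow p q).eq))) (x := b') (fun y hy => by
        obtain ⟨p, rfl⟩ := hy
        have hcp : r a ^ p * r b' = r b' * r a ^ p := (Commute.zpow_left hca p).eq
        rw [MonoidHom.mem_ker, map_mul, map_inv, map_mul, map_mul, map_inv, map_zpow, hcp]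
        group)
    set b := b' * d with hb
    have hrb : r b = r b' := by rw [hb, map_mul, MonoidHom.mem_ker.1 hd, mul_one]
    have hmem := (Subgroup.mem_normalizer_iff.1 hn a).1 (Subgroup.mem_zpowers a)
    obtain ⟨p, hp⟩ := hmem
    simp only at hp
    have hp' : r a ^ p = r a := by
      rw [← map_zpow, hp, map_mul, map_mul, map_inv, hrb, ← hca]
      group
    have hcomm : b * a = a * b := by
      have h4 : r (a ^ p * a⁻¹) = 1 := by rw [map_mul, map_inv, map_zpow, hp', mul_inv_cancel]
      have h5 : Odd (orderOf (a ^ p * a⁻¹)) := by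
        refine hao.of_dvd_nat ?_
        rw [← zpow_neg_one, ← zpow_add]
        exact orderOf_dvd_of_mem_zpowers ⟨_, rfl⟩
      have h6 := mul_inv_eq_one.1 (hodd_ker _ h5 h4)
      calc b * a = b * a * b⁻¹ * b := by group
        _ = a ^ p * b := by rw [hp]
        _ = a * b := by rw [h6]
    have hb4 : (b * b) * (b * b) = 1 := hK _ (by rw [map_mul, hrb, h2])
    have hab : (a : MulAut V) * b = b * a := congrArg Subtype.val hcomm.symm
    have ha1' : (a : MulAut V) ≠ 1 := fun e => ha1 (Subtype.ext e)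
    have hao' : Odd (orderOf (a : MulAut V)) := by rwa [Subgroup.orderOf_coe]
    by_cases hbb : b * b = 1
    · refine h.pair _ a.2 _ b.2 hao' ha1' (congrArg Subtype.val hbb) (fun e => h3 ?_) hab
      rw [← hrb, show b = 1 from Subtype.ext e, map_one]
    · refine h.pair _ a.2 _ (b * b).2 hao' ha1' (congrArg Subtype.val hb4)
        (fun e => hbb (Subtype.ext e)) ?_
      exact (Commute.mul_right (show Commute (a : MulAut V) b from hab) (show Commute (a : MulAut V) b from hab)).eq
  · rintro _ ⟨a', rfl⟩ ho h1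
    obtain ⟨a, hao, ha1, k, hk⟩ := hlift a' ho h1
    have hao' : Odd (orderOf (a : MulAut V)) := by rwa [Subgroup.orderOf_coe]
    have hf := h.fix _ a.2 hao' (fun e => ha1 (Subtype.ext e))
    let F : Subgroup V := MonoidHom.eqLocus (a : MulAut V).toMonoidHom (MonoidHom.id V)
    have hF : Nat.card F = Nat.card {x : V // (a : MulAut V) x = x} := rfl
    have hpow : ∀ (n : ℕ) (x : V), (a : MulAut V) x = x * z →
        ((a ^ n : X) : MulAut V) x = x * z ^ n := by
      intro n x hx
      induction n with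
      | zero => simp
      | succ n ih =>
        rw [pow_succ, Subgroup.coe_mul, MulAut.mul_apply, hx, map_mul, ih, hfix _ (a ^ n).2,
          mul_assoc, ← pow_succ]
    have hsurj : ∀ w : {w : W // r a' w = w}, ∃ x : F, π (x : V) = w := by
      rintro ⟨w, hw⟩
      obtain ⟨x, rfl⟩ := hπ w
      have hwk : ∀ n : ℕ, (r a' ^ n) (π x) = π x := fun n => by
        induction n with
        | zero => rfl
        | succ n ih => rw [pow_succ, MulAut.mul_apply, hw, ih]
      have h4 : π ((a : MulAut V) x) = π x := by rw [← hr, hk, hwk]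
      have h5 : π (x⁻¹ * (a : MulAut V) x) = 1 := by rw [map_mul, map_inv, h4, inv_mul_cancel]
      rcases (hker _).1 h5 with e | e
      · exact ⟨⟨x, (inv_mul_eq_one.1 e).symm⟩, rfl⟩
      · exfalso
        have := hpow (orderOf a) x (by rw [← e, mul_inv_cancel_left])
        rw [pow_orderOf_eq_one] at this
        obtain ⟨q, hq⟩ := hao
        rw [hq, pow_succ, pow_mul, pow_two, hel, one_pow, one_mul] at this
        exact hz1 (mul_eq_left.1 this.symm)
    choose s hs using hsurj
    have hF2 : Nat.card {w : W // r a' w = w} * 2 ≤ Nat.card F := by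
      let zF : F := ⟨z, hfix a a.2⟩
      have hinj : Function.Injective (fun p : {w : W // r a' w = w} × Bool =>
          s p.1 * cond p.2 zF 1) := by
        rintro ⟨w, b⟩ ⟨w', b'⟩ e
        have e' := congrArg (fun t : F => π (t : V)) e
        have hzz : ∀ c : Bool, π ((cond c zF 1 : F) : V) = 1 := fun c => by
          cases c
          · exact map_one π
          · exact (hker z).2 (Or.inr rfl)
        simp only [Subgroup.coe_mul, map_mul, hs, hzz, mul_one] at e'
        obtain rfl : w = w' := Subtype.ext e'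
        refine Prod.ext rfl ?_
        have e2 := congrArg Subtype.val (mul_left_cancel e)
        cases b <;> cases b'
        · rfl
        · exact absurd e2.symm hz1
        · exact absurd e2 hz1
        · rfl
      have := Nat.card_le_card_of_injective _ hinj
      rwa [Nat.card_prod, Nat.card_eq_fintype_card (α := Bool), Fintype.card_bool] at this
    have hV : Nat.card V = Nat.card W * 2 := by
      have h4 := Subgroup.card_eq_card_quotient_mul_card_subgroup π.ker
      rw [Nat.card_congr (QuotientGroup.quotientKerEquivOfSurjective π hπ).toEquiv] at h4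
      rw [h4, show Nat.card π.ker = 2 from ?_]
      have h5 : (π.ker : Set V) = {1, z} := by ext x; exact (hker x)
      rw [show Nat.card π.ker = (π.ker : Set V).ncard from Nat.card_coe_set_eq _, h5,
        Set.ncard_pair (Ne.symm hz1)]
    omega

end Descend

variable {G : Type u} [Group G] [Finite G]

theorem SC.map {A : Subgroup G} (h : SC A) (M : Subgroup G) [M.Normal] :
    SC (A.map (QuotientGroup.mk' M)) := by
  haveI : Fact (Nat.Prime 2) := ⟨Nat.prime_two⟩
  obtain ⟨S, hS⟩ := h
  refine ⟨S.mapSurjective (QuotientGroup.mk'_surjective M), ?_⟩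
  rw [Sylow.coe_mapSurjective]
  exact Cfsg.Agent.S1250.result S A hS M

/-- Passing to a quotient meeting `A` trivially in which normalisers lift. -/
theorem Cond.map {A : Subgroup G} (h : Cond (autOn A)) (M : Subgroup G) [M.Normal] (hAM : A ⊓ M = ⊥)
    (hlift : ∀ g : G, QuotientGroup.mk' M g ∈ Subgroup.normalizer (A.map (QuotientGroup.mk' M) : Set (G ⧸ M)) →
      ∃ n ∈ Subgroup.normalizer (A : Set G), ∀ a ∈ A, (n * a * n⁻¹)⁻¹ * (g * a * g⁻¹) ∈ M) :
    Cond (autOn (A.map (QuotientGroup.mk' M))) := by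
  have hinj : ∀ x : A, QuotientGroup.mk' M (x : G) = 1 → x = 1 := fun x hx => Subtype.ext <| by
    have h1 : (x : G) ∈ A ⊓ M := ⟨x.2, (QuotientGroup.eq_one_iff _).1 hx⟩
    rwa [hAM, Subgroup.mem_bot] at h1
  have hbij : Function.Bijective ((QuotientGroup.mk' M).subgroupMap A) :=
    ⟨(injective_iff_map_eq_one _).2 fun x hx => hinj x (congrArg Subtype.val hx),
      MonoidHom.subgroupMap_surjective _ _⟩
  refine h.transfer (MulEquiv.ofBijective _ hbij) fun m hm => ?_
  obtain ⟨g, rfl⟩ := QuotientGroup.mk'_surjective M m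
  obtain ⟨n, hn, hng⟩ := hlift g hm
  refine ⟨n, hn, fun a hna => ?_⟩
  show QuotientGroup.mk' M (n * a * n⁻¹) = QuotientGroup.mk' M g * QuotientGroup.mk' M (a : G) * (QuotientGroup.mk' M g)⁻¹
  rw [← map_inv, ← map_mul, ← map_mul]
  exact QuotientGroup.eq.2 (hng a a.2)

/-- A two-subgroup central in `G` does not create an odd core. -/
theorem oddCore_quotient_central (hO : oddCore G = ⊥) (Z : Subgroup G) [Z.Normal]
    (hZ : Z ≤ Subgroup.center G) (hZ2 : IsPGroup 2 Z) : oddCore (G ⧸ Z) = ⊥ := by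
  haveI : Fact (Nat.Prime 2) := ⟨Nat.prime_two⟩
  have hNn : (oddCore (G ⧸ Z)).Normal := Solv.pPrimeCore_normal 2
  set K := (oddCore (G ⧸ Z)).comap (QuotientGroup.mk' Z) with hKdef
  haveI : K.Normal := hNn.comap _
  have hZK : Z ≤ K := fun x hx => by
    rw [hKdef, Subgroup.mem_comap, QuotientGroup.mk'_apply, (QuotientGroup.eq_one_iff x).2 hx]
    exact one_mem _
  have hcardK : Nat.card K = Nat.card (oddCore (G ⧸ Z)) * Nat.card Z := by
    have h1 := K.card_mul_index
    have h2 := (oddCore (G ⧸ Z)).card_mul_index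
    rw [hKdef, Subgroup.index_comap_of_surjective _ (QuotientGroup.mk'_surjective Z), ← hKdef] at h1
    rw [Subgroup.card_eq_card_quotient_mul_card_subgroup Z, ← h2, mul_right_comm] at h1
    exact Nat.eq_of_mul_eq_mul_right (Nat.pos_of_ne_zero Subgroup.index_ne_zero_of_finite) h1
  have hodd : Odd (Nat.card (oddCore (G ⧸ Z))) := Nat.coprime_two_right.1 (card_pPrimeCore_coprime 2 _)
  obtain ⟨e, he⟩ := hZ2.exists_card_eq
  haveI : (Z.subgroupOf K).Normal := Subgroup.Normal.subgroupOf inferInstance K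
  have hidx : (Z.subgroupOf K).index = Nat.card (oddCore (G ⧸ Z)) := by
    have h1 := (Z.subgroupOf K).card_mul_index
    rw [hcardK, Nat.card_congr (Subgroup.subgroupOfEquivOfLe hZK).toEquiv, mul_comm] at h1
    exact Nat.eq_of_mul_eq_mul_right Nat.card_pos h1
  obtain ⟨L, hL⟩ := Subgroup.exists_right_complement'_of_coprime (N := Z.subgroupOf K) (by
    rw [hidx, Nat.card_congr (Subgroup.subgroupOfEquivOfLe hZK).toEquiv, he]
    exact (Nat.coprime_two_left.2 hodd).pow_left _)
  set L' := L.map K.subtype with hL'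
  have hLodd : Odd (Nat.card L') := by
    rw [hL', Solv.card_map_subtype, ← hL.symm.index_eq_card, hidx]; exact hodd
  have hLn : L'.Normal := by
    refine ⟨fun x hx g => ?_⟩
    obtain ⟨y, hy, rfl⟩ := hx
    have hgK : g * (y : G) * g⁻¹ ∈ K := Subgroup.Normal.conj_mem inferInstance _ y.2 g
    obtain ⟨⟨⟨w, hw⟩, ⟨l, hl⟩⟩, hwl⟩ := hL.2 ⟨_, hgK⟩
    have hwl' : (w : G) * l = g * y * g⁻¹ := congrArg Subtype.val hwl
    have hwc : (w : G) ∈ Subgroup.center G := hZ hw
    have hpow : ((w : G) * l) ^ Nat.card L' = 1 := by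
      have h1 : (y : G) ^ Nat.card L' = 1 := orderOf_dvd_iff_pow_eq_one.1
        (Subgroup.orderOf_dvd_natCard _ ⟨y, hy, rfl⟩)
      rw [hwl', conj_pow, h1]; group
    have hl1 : (l : G) ^ Nat.card L' = 1 := orderOf_dvd_iff_pow_eq_one.1
      (Subgroup.orderOf_dvd_natCard _ ⟨l, hl, rfl⟩)
    have hcom : Commute (w : G) (l : G) := (Subgroup.mem_center_iff.1 hwc (l : G)).symm
    rw [hcom.mul_pow, hl1, mul_one] at hpow
    have hw1 : (w : G) = 1 := by
      refine orderOf_eq_one_iff.1 (Nat.eq_one_of_dvd_coprimes ((Nat.coprime_two_left.2 hLodd).pow_left e)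
        (he ▸ Subgroup.orderOf_dvd_natCard Z (Subgroup.mem_subgroupOf.1 hw)) (orderOf_dvd_of_pow_eq_one hpow))
    refine ⟨l, hl, ?_⟩
    show (l : G) = g * y * g⁻¹
    rw [← hwl', hw1, one_mul]
  have hLbot : L' = ⊥ := le_bot_iff.1 (hO ▸ le_pPrimeCore (hn := hLn) (Nat.coprime_two_right.2 hLodd))
  have : Nat.card (oddCore (G ⧸ Z)) = 1 := by
    rw [← hidx, hL.symm.index_eq_card, ← Solv.card_map_subtype L, ← hL', hLbot, Subgroup.card_bot]
  exact Subgroup.eq_bot_of_card_eq _ this

end Cfsg.Agent.Local.SCA
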