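import Cfsg.Agent.Lib.Local.SCAbelian.Main
import Mathlib

/-!
The induction for strongly closed elementary abelian two-subgroups with a small rigid automiser.
-/

set_option autoImplicit false
set_option linter.style.haveILetI false

namespace Cfsg.Agent.Local.SCA

open Cfsg Cfsg.Agent.Fusion

universe u

variable {G : Type u} [Group G] [Finite G] {A : Subgroup G}

theorem elemAb_map {H : Type u} [Group H] (hA : IsElementaryAbelian 2 A) (f : G →* H) :
    IsElementaryAbelian 2 (A.map f) :=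
  ⟨⟨⟨fun x y => Subtype.ext <| by
      obtain ⟨_, u, hu, rfl⟩ := x
      obtain ⟨_, w, hw, rfl⟩ := y
      exact ((map_mul f u w).symm.trans (congrArg _ (comm_of_mem hA hu hw))).trans (map_mul _ w u)⟩⟩,
    by rintro _ ⟨u, hu, rfl⟩; rw [← map_pow, hA.2 u hu, map_one]⟩

theorem sup_normal_of_map {M : Subgroup G} [M.Normal] (h : (A.map (QuotientGroup.mk' M)).Normal) :
    (A ⊔ M).Normal := by
  have := h.comap (QuotientGroup.mk' M)
  rwa [Subgroup.comap_map_eq, QuotientGroup.ker_mk'] at this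

theorem card_quotient_lt {M : Subgroup G} (hM : M ≠ ⊥) : Nat.card (G ⧸ M) < Nat.card G := by
  rw [Subgroup.card_eq_card_quotient_mul_card_subgroup M]
  exact lt_mul_of_one_lt_right Nat.card_pos ((Subgroup.one_lt_card_iff_ne_bot M).2 hM)

theorem odd_step (hA : IsElementaryAbelian 2 A) (hsc : SC A) (hc : Cond (autOn A))
    (hO : oddCore G ≠ ⊥)
    (ih : ∀ (K : Type u) [Group K] [Finite K], Nat.card K < Nat.card G → ∀ B : Subgroup K,
      IsElementaryAbelian 2 B → SC B → Cond (autOn B) → Concl B) : Concl A := by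
  haveI : Fact (Nat.Prime 2) := ⟨Nat.prime_two⟩
  set M := oddCore G with hM
  haveI : M.Normal := Solv.pPrimeCore_normal 2
  have hAM : A ⊓ M = ⊥ := inf_eq_bot_of_odd hsc.isPGroup oddCore_odd'
  have hcond : Cond (autOn (A.map (QuotientGroup.mk' M))) := by
    refine hc.map M hAM fun g hg => ?_
    have hle : cj A g ≤ A ⊔ M := by
      rw [← QuotientGroup.ker_mk' M, ← Subgroup.comap_map_eq]
      rintro _ ⟨a, ha, rfl⟩
      show QuotientGroup.mk' M (g * a * g⁻¹) ∈ A.map (QuotientGroup.mk' M)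
      rw [map_mul, map_mul, map_inv]
      exact (Subgroup.mem_normalizer_iff.1 hg _).1 ⟨a, ha, rfl⟩
    obtain ⟨y, hy, he⟩ := hsc.conj_in le_sup_left hle
    obtain ⟨a', ha', o, ho, rfl⟩ := Subgroup.mem_sup_of_normal_right.1 hy
    refine ⟨(a' * o)⁻¹ * g, mem_normalizer_iff_cj.2 (by rw [← cj_cj, he, cj_cj_inv]), fun a ha => ?_⟩
    set w := (a' * o)⁻¹ * g * a * ((a' * o)⁻¹ * g)⁻¹ with hw
    have hwA : w ∈ A := by
      have := conj_mem (A := A) (n := (a' * o)⁻¹ * g) (mem_normalizer_iff_cj.2 (by rw [← cj_cj, he, cj_cj_inv])) ha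
      exact this
    rw [show g * a * g⁻¹ = a' * o * w * (a' * o)⁻¹ by rw [hw]; group, ← QuotientGroup.eq]
    have h1 : ((o : G) : G ⧸ M) = 1 := (QuotientGroup.eq_one_iff o).2 ho
    simp only [QuotientGroup.mk_mul, QuotientGroup.mk_inv, h1, mul_one]
    rw [← QuotientGroup.mk_inv, ← QuotientGroup.mk_mul, ← QuotientGroup.mk_mul, comm_of_mem hA ha' hwA,
      mul_inv_cancel_right]
  have h := ih (G ⧸ M) (card_quotient_lt hO) _ (elemAb_map hA _) (hsc.map M) hcond
  have hbot : oddCore (G ⧸ M) = ⊥ := pPrimeCore_quotient_eq_bot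
  rw [Concl, hbot, sup_bot_eq] at h
  exact sup_normal_of_map h

theorem central_step (hA : IsElementaryAbelian 2 A) (hsc : SC A) (hc : Cond (autOn A))
    (hO : oddCore G = ⊥) {z : G} (hz1 : z ≠ 1) (hz2 : z * z = 1) (hz : ∀ g : G, g * z = z * g)
    (ih : ∀ (K : Type u) [Group K] [Finite K], Nat.card K < Nat.card G → ∀ B : Subgroup K,
      IsElementaryAbelian 2 B → SC B → Cond (autOn B) → Concl B) : A.Normal := by
  haveI : Fact (Nat.Prime 2) := ⟨Nat.prime_two⟩
  set Z := Subgroup.zpowers z with hZdef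
  have hZc : Z ≤ Subgroup.center G := Subgroup.zpowers_le.2 (Subgroup.mem_center_iff.2 hz)
  haveI : Z.Normal := ⟨fun x hx g => by
    rw [Subgroup.mem_center_iff.1 (hZc hx) g, mul_inv_cancel_right]; exact hx⟩
  have hZ2 : IsPGroup 2 Z := IsPGroup.of_card (n := 1)
    (by rw [Nat.card_zpowers, orderOf_eq_prime (by rw [pow_two]; exact hz2) hz1, pow_one])
  have hmemZ : ∀ x, x ∈ Z ↔ x = 1 ∨ x = z := by
    intro x
    refine ⟨fun hx => ?_, ?_⟩
    · obtain ⟨j, rfl⟩ := hx
      have hrr : z ^ (2 : ℤ) = 1 := by rw [zpow_two]; exact hz2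
      rcases Int.even_or_odd j with ⟨t, rfl⟩ | ⟨t, rfl⟩
      · left; simp only; rw [← two_mul, zpow_mul, hrr, one_zpow]
      · right; simp only; rw [zpow_add, zpow_mul, hrr, one_zpow, one_mul, zpow_one]
    · rintro (rfl | rfl)
      · exact Z.one_mem
      · exact Subgroup.mem_zpowers _
  obtain ⟨S, hS⟩ := (hsc.isPGroup.to_sup_of_normal_right hZ2).exists_le_sylow
  have hAS : A ≤ (S : Subgroup G) := le_sup_left.trans hS
  have hclosed : ∀ {g a : G}, a ∈ A → g * a * g⁻¹ ∈ A ⊔ Z → g * a * g⁻¹ ∈ A := fun {g a} ha h =>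
    (hsc.closed_in hAS).2 a ha g (hS h)
  have hlift : ∀ g : G, QuotientGroup.mk' Z g ∈ Subgroup.normalizer (A.map (QuotientGroup.mk' Z) : Set (G ⧸ Z)) →
      g ∈ Subgroup.normalizer (A : Set G) := fun g hg => mem_normalizer_of_cj_le (by
    rintro _ ⟨a, ha, rfl⟩
    refine hclosed ha ?_
    rw [← QuotientGroup.ker_mk' Z, ← Subgroup.comap_map_eq, Subgroup.mem_comap, map_mul, map_mul, map_inv]
    exact (Subgroup.mem_normalizer_iff.1 hg _).1 ⟨a, ha, rfl⟩)
  have hcond : Cond (autOn (A.map (QuotientGroup.mk' Z))) := by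
    by_cases hzA : z ∈ A
    · have hker : ∀ x : A, (QuotientGroup.mk' Z).subgroupMap A x = 1 ↔ x = 1 ∨ x = ⟨z, hzA⟩ := fun x => by
        rw [← Subtype.coe_inj (b := (1 : A.map (QuotientGroup.mk' Z)))]
        show QuotientGroup.mk' Z (x : G) = 1 ↔ _
        rw [QuotientGroup.mk'_apply, QuotientGroup.eq_one_iff, hmemZ]
        simp only [Subtype.ext_iff, Subgroup.coe_one]
      refine hc.descend (fun x => Subtype.ext (mul_self_of_mem hA x.2)) _ (MonoidHom.subgroupMap_surjective _ _)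
        (z := (⟨z, hzA⟩ : A)) (fun e => hz1 (congrArg Subtype.val e)) hker (fun α hα => ?_) fun β hβ => ?_
      · obtain ⟨n, -, hn⟩ := mem_autOn.1 hα
        refine Subtype.ext ((hn _).trans ?_)
        show n * z * n⁻¹ = z
        rw [hz n, mul_inv_cancel_right]
      · obtain ⟨m, hm, hβm⟩ := mem_autOn.1 hβ
        obtain ⟨g, rfl⟩ := QuotientGroup.mk'_surjective Z m
        refine ⟨Subgroup.normalizerMonoidHom A ⟨g, hlift g hm⟩, ⟨_, rfl⟩, fun x => Subtype.ext ?_⟩
        rw [hβm]
        show QuotientGroup.mk' Z (g * x * g⁻¹) = _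
        rw [map_mul, map_mul, map_inv]
        rfl
    · refine hc.map Z (eq_bot_iff.2 fun x hx => ?_) fun g hg => ⟨g, hlift g hg, fun a _ => by
        rw [inv_mul_cancel]; exact Z.one_mem⟩
      rcases (hmemZ x).1 hx.2 with h | h
      · exact Subgroup.mem_bot.2 h
      · exact absurd (h ▸ hx.1) hzA
  have h := ih (G ⧸ Z) (card_quotient_lt (fun e => hz1 (Subgroup.mem_bot.1 (e ▸ Subgroup.mem_zpowers z)))) _
    (elemAb_map hA _) (hsc.map Z) hcond
  rw [Concl, oddCore_quotient_central hO Z hZc hZ2, sup_bot_eq] at h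
  have hn := sup_normal_of_map h
  exact ⟨fun a ha g => hclosed ha (hn.conj_mem a (Subgroup.mem_sup_left ha) g)⟩

theorem concl_aux : ∀ (n : ℕ) (G : Type u) [Group G] [Finite G], Nat.card G = n → ∀ A : Subgroup G,
    IsElementaryAbelian 2 A → SC A → Cond (autOn A) → Concl A := by
  intro n
  induction n using Nat.strong_induction_on with
  | _ n ih =>
    intro G _ _ hn A hA hsc hc
    have ih' : ∀ (K : Type u) [Group K] [Finite K], Nat.card K < Nat.card G → ∀ B : Subgroup K,
        IsElementaryAbelian 2 B → SC B → Cond (autOn B) → Concl B :=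
      fun K _ _ hK B => ih _ (hn ▸ hK) K rfl B
    by_cases hO : oddCore G = ⊥
    swap
    · exact odd_step hA hsc hc hO ih'
    rw [Concl, hO, sup_bot_eq]
    by_cases hne : A = ⊥
    · subst hne; exact inferInstance
    by_cases hz : ∃ z : G, z ≠ 1 ∧ z * z = 1 ∧ Subgroup.centralizer ({z} : Set G) = ⊤
    · obtain ⟨z, h1, h2, h3⟩ := hz
      refine central_step hA hsc hc hO h1 h2 (fun g => ?_) ih'
      exact Subgroup.mem_centralizer_singleton_iff.1 (h3 ▸ Subgroup.mem_top g)
    push Not at hz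
    refine normal_of_rigid (fun K hK B hBK hB hBs hBc => ih' K ?_ _ (elemAb_subgroupOf hB K) hBs hBc) hO hA hsc hc hne hz
    refine lt_of_le_of_ne (Subgroup.card_le_card_group K) fun e => hK ?_
    exact Subgroup.eq_top_of_card_eq K e

/-- A strongly closed elementary abelian two-subgroup with a two-group or rigid automiser. -/
theorem normal_sup_oddCore (hA : IsElementaryAbelian 2 A) (hsc : SC A) (hc : Cond (autOn A)) :
    (A ⊔ oddCore G).Normal :=
  concl_aux _ G rfl A hA hsc hc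

end Cfsg.Agent.Local.SCA
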