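import Cfsg.Prelude.Def_TwoFusion
import Cfsg.Agent.Lib.Fusion.Basic
import Cfsg.Agent.Lib.Local.ElemAb
import Cfsg.Agent.S1249
import Mathlib

/-!
Strongly closed elementary abelian two-subgroups: fusion and the induced automorphisms.
-/

set_option autoImplicit false
set_option linter.style.haveILetI false

namespace Cfsg.Agent.Local.SCA

open Cfsg Cfsg.Agent.Fusion

universe u v

/-! ### The condition on the group of automorphisms -/

/-- The arithmetic restrictions on a group of automorphisms. -/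
structure Rigid {V : Type u} [Group V] (X : Subgroup (MulAut V)) : Prop where
  dvd : Nat.card X ∣ 168
  pair : ∀ α ∈ X, ∀ β ∈ X, Odd (orderOf α) → α ≠ 1 → β * β = 1 → β ≠ 1 → α * β ≠ β * α
  fix : ∀ α ∈ X, Odd (orderOf α) → α ≠ 1 → Nat.card {v : V // α v = v} * 16 ≤ Nat.card V

/-- Either a two-group or rigid. -/
def Cond {V : Type u} [Group V] (X : Subgroup (MulAut V)) : Prop := IsPGroup 2 X ∨ Rigid X

theorem Cond.mono {V : Type u} [Group V] {X Y : Subgroup (MulAut V)} (h : Cond X) (hle : Y ≤ X) :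
    Cond Y := by
  rcases h with h | h
  · exact Or.inl (h.to_le hle)
  · exact Or.inr ⟨(Subgroup.card_dvd_of_le hle).trans h.dvd, fun α hα β hβ => h.pair α (hle hα) β (hle hβ),
      fun α hα => h.fix α (hle hα)⟩

theorem Cond.map_congr {V : Type u} {W : Type v} [Group V] [Group W] {X : Subgroup (MulAut V)}
    (h : Cond X) (f : V ≃* W) : Cond (X.map (MulAut.congr f).toMonoidHom) := by
  set e := MulAut.congr f
  rcases h with h | h
  · exact Or.inl (h.map _)
  refine Or.inr ⟨?_, ?_, ?_⟩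
  · rw [Subgroup.card_map_of_injective e.injective]; exact h.dvd
  · rintro _ ⟨α, hα, rfl⟩ _ ⟨β, hβ, rfl⟩ ho h1 h2 h3 hc
    simp only [MulEquiv.coe_toMonoidHom] at *
    refine h.pair α hα β hβ (by rwa [e.orderOf_eq] at ho) (fun e' => h1 (by rw [e', map_one]))
      (e.injective (by rw [map_mul, h2, map_one])) (fun e' => h3 (by rw [e', map_one])) (e.injective ?_)
    rw [map_mul, map_mul, hc]
  · rintro _ ⟨α, hα, rfl⟩ ho h1
    simp only [MulEquiv.coe_toMonoidHom] at *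
    have hf := h.fix α hα (by rwa [e.orderOf_eq] at ho) (fun e' => h1 (by rw [e', map_one]))
    have hc : Nat.card {w : W // e α w = w} = Nat.card {v : V // α v = v} := by
      refine Nat.card_congr (Equiv.subtypeEquiv f.symm.toEquiv fun w => ?_)
      show e α w = w ↔ α (f.symm w) = f.symm w
      rw [show e α w = f (α (f.symm w)) from rfl]
      exact ⟨fun hw => f.injective (by rw [hw, MulEquiv.apply_symm_apply]),
        fun hw => by rw [hw, MulEquiv.apply_symm_apply]⟩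
    rw [hc, ← Nat.card_congr f.toEquiv]
    exact hf

variable {G : Type u} [Group G]

/-- The automorphisms of `A` induced by its normaliser. -/
def autOn (A : Subgroup G) : Subgroup (MulAut A) :=
  (Subgroup.normalizerMonoidHom A).range

theorem mem_autOn {A : Subgroup G} {α : MulAut A} :
    α ∈ autOn A ↔ ∃ n ∈ Subgroup.normalizer (A : Set G), ∀ a : A, ((α a : A) : G) = n * a * n⁻¹ := by
  constructor
  · rintro ⟨n, rfl⟩
    exact ⟨n, n.2, fun a => rfl⟩
  · rintro ⟨n, hn, h⟩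
    exact ⟨⟨n, hn⟩, MulEquiv.ext fun a => Subtype.ext (h a).symm⟩

/-- The automorphisms of `B` are compared with those of `A` through an isomorphism. -/
theorem Cond.transfer {H : Type v} [Group H] {A : Subgroup G} {B : Subgroup H} (h : Cond (autOn A))
    (f : A ≃* B)
    (hlift : ∀ m ∈ Subgroup.normalizer (B : Set H), ∃ n ∈ Subgroup.normalizer (A : Set G), ∀ a : A,
      ∀ hn : n * (a : G) * n⁻¹ ∈ A, ((f ⟨n * a * n⁻¹, hn⟩ : B) : H) = m * (f a : H) * m⁻¹) :
    Cond (autOn B) := by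
  refine (h.map_congr f).mono fun β hβ => ?_
  obtain ⟨m, hm, hβm⟩ := mem_autOn.1 hβ
  obtain ⟨n, hn, hnm⟩ := hlift m hm
  refine ⟨Subgroup.normalizerMonoidHom A ⟨n, hn⟩, ⟨_, rfl⟩, MulEquiv.ext fun b => Subtype.ext ?_⟩
  obtain ⟨a, rfl⟩ := f.surjective b
  rw [hβm]
  show ((f (Subgroup.normalizerMonoidHom A ⟨n, hn⟩ (f.symm (f a))) : B) : H) = _
  rw [f.symm_apply_apply]
  exact hnm a _

theorem conj_mem {A : Subgroup G} {n a : G} (hn : n ∈ Subgroup.normalizer (A : Set G)) (ha : a ∈ A) :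
    n * a * n⁻¹ ∈ A := (Subgroup.mem_normalizer_iff.1 hn a).1 ha

theorem Cond.cj {A : Subgroup G} (h : Cond (autOn A)) (k : G) : Cond (autOn (Fusion.cj A k)) := by
  refine h.transfer ((MulAut.conj k).subgroupMap A) fun m hm => ?_
  have hm' : k⁻¹ * m * k ∈ Subgroup.normalizer (A : Set G) := by
    rw [← Fusion.cj_normalizer, mem_cj] at hm
    exact hm
  refine ⟨_, hm', fun a hn => ?_⟩
  show k * (k⁻¹ * m * k * a * (k⁻¹ * m * k)⁻¹) * k⁻¹ = m * (k * a * k⁻¹) * m⁻¹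
  group

variable [Finite G]

/-- Strongly closed in some Sylow two-subgroup. -/
def SC (A : Subgroup G) : Prop :=
  ∃ S : Sylow 2 G, Cfsg.IsStronglyClosed A (S : Subgroup G)

theorem SC.isPGroup {A : Subgroup G} (h : SC A) : IsPGroup 2 A := by
  obtain ⟨S, hS⟩ := h
  exact S.isPGroup'.to_le hS.1

theorem SC.closed_in {A : Subgroup G} (h : SC A) {S : Sylow 2 G} (hAS : A ≤ (S : Subgroup G)) :
    Cfsg.IsStronglyClosed A (S : Subgroup G) := by
  haveI : Fact (Nat.Prime 2) := ⟨Nat.prime_two⟩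
  obtain ⟨S₀, hS₀⟩ := h
  exact Cfsg.Agent.S1249.result S₀ S A hAS hS₀

theorem SC.le_normalizer {A : Subgroup G} (h : SC A) {S : Sylow 2 G} (hAS : A ≤ (S : Subgroup G)) :
    (S : Subgroup G) ≤ Subgroup.normalizer (A : Set G) := fun s hs =>
  mem_normalizer_of_cj_le (by
    rintro _ ⟨a, ha, rfl⟩
    exact (h.closed_in hAS).2 a ha s
      ((S : Subgroup G).mul_mem ((S : Subgroup G).mul_mem hs (hAS ha)) ((S : Subgroup G).inv_mem hs)))

theorem SC.cj {A : Subgroup G} (h : SC A) (k : G) : SC (Fusion.cj A k) := by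
  haveI : Fact (Nat.Prime 2) := ⟨Nat.prime_two⟩
  obtain ⟨S, hS⟩ := h
  obtain ⟨S', hS'⟩ := SylIn.exists_sylow (T := Fusion.cj (S : Subgroup G) k)
    ((sylIn_top S).cj' (by rw [Subgroup.normalizer_eq_top]; exact Subgroup.mem_top k))
  refine ⟨S', by rw [hS']; exact cj_mono hS.1 k, ?_⟩
  intro x hx g hg
  rw [hS', mem_cj] at hg
  rw [mem_cj] at hx ⊢
  have := hS.2 _ hx (k⁻¹ * g * k) (by
    rwa [show k⁻¹ * g * k * (k⁻¹ * x * k) * (k⁻¹ * g * k)⁻¹ = k⁻¹ * (g * x * g⁻¹) * k by group])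
  rwa [show k⁻¹ * g * k * (k⁻¹ * x * k) * (k⁻¹ * g * k)⁻¹ = k⁻¹ * (g * x * g⁻¹) * k by group] at this

theorem SC.exists_cj_le {A : Subgroup G} (h : SC A) (S : Sylow 2 G) :
    ∃ k : G, Fusion.cj A k ≤ (S : Subgroup G) := by
  haveI : Fact (Nat.Prime 2) := ⟨Nat.prime_two⟩
  obtain ⟨x, -, hx⟩ := (sylIn_top S).conj_le h.isPGroup le_top
  exact ⟨x, hx⟩

/-- A conjugate of an element of `A` in a two-subgroup lies in a conjugate of `A` closed there. -/
theorem SC.exists_cover {A : Subgroup G} (h : SC A) {T : Subgroup G} (hT : IsPGroup 2 T) :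
    ∃ (k : G) (S : Sylow 2 G), T ≤ (S : Subgroup G) ∧ Fusion.cj A k ≤ (S : Subgroup G) ∧
      ∀ a ∈ A, ∀ g : G, g * a * g⁻¹ ∈ T → g * a * g⁻¹ ∈ Fusion.cj A k := by
  obtain ⟨S, hTS⟩ := hT.exists_le_sylow
  obtain ⟨k, hk⟩ := h.exists_cj_le S
  refine ⟨k, S, hTS, hk, fun a ha g hg => ?_⟩
  have := ((h.cj k).closed_in hk).2 _ (conj_mem_cj ha) (g * k⁻¹) (by
    rw [show g * k⁻¹ * (k * a * k⁻¹) * (g * k⁻¹)⁻¹ = g * a * g⁻¹ by group]; exact hTS hg)
  rwa [show g * k⁻¹ * (k * a * k⁻¹) * (g * k⁻¹)⁻¹ = g * a * g⁻¹ by group] at this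

/-- Conjugates of `A` inside a subgroup are conjugate in it. -/
theorem SC.conj_in {A K : Subgroup G} (h : SC A) (hAK : A ≤ K) {g : G} (hgK : Fusion.cj A g ≤ K) :
    ∃ k ∈ K, Fusion.cj A g = Fusion.cj A k := by
  haveI : Fact (Nat.Prime 2) := ⟨Nat.prime_two⟩
  obtain ⟨T, hT, hAT⟩ := exists_sylIn_ge h.isPGroup hAK
  obtain ⟨x, hx, hxT⟩ := hT.conj_le (isPGroup_cj h.isPGroup g) hgK
  obtain ⟨S, hS⟩ := hT.isPGroup.exists_le_sylow
  have hAS : A ≤ (S : Subgroup G) := hAT.trans hS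
  have hle : Fusion.cj (Fusion.cj A g) x ≤ A := by
    rintro y hy
    rw [cj_cj] at hy
    obtain ⟨a, ha, rfl⟩ := hy
    refine (h.closed_in hAS).2 a ha (x * g) (hS (hxT ?_))
    rw [cj_cj]
    exact ⟨a, ha, rfl⟩
  have heq : Fusion.cj (Fusion.cj A g) x = A :=
    Subgroup.eq_of_le_of_card_ge hle (by rw [card_cj, card_cj])
  refine ⟨x⁻¹, K.inv_mem hx, ?_⟩
  conv_rhs => rw [← heq, cj_cj_inv]

/-- Fusion in `A` is controlled by its normaliser. -/
theorem SC.fuse {A : Subgroup G} (h : SC A) (hab : IsMulCommutative A) {a g : G} (ha : a ∈ A)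
    (hg : g * a * g⁻¹ ∈ A) :
    ∃ n ∈ Subgroup.normalizer (A : Set G), n * a * n⁻¹ = g * a * g⁻¹ := by
  set b := g * a * g⁻¹
  have hc : ∀ x ∈ A, ∀ y ∈ A, x * y = y * x := fun x hx y hy =>
    congrArg Subtype.val (hab.is_comm.comm ⟨x, hx⟩ ⟨y, hy⟩)
  obtain ⟨k, hk, he⟩ := h.conj_in (K := Subgroup.centralizer ({b} : Set G))
    (fun x hx => Subgroup.mem_centralizer_singleton_iff.2 (hc x hx b hg)) (g := g) (by
      rintro _ ⟨x, hx, rfl⟩
      refine Subgroup.mem_centralizer_singleton_iff.2 ?_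
      show g * x * g⁻¹ * (g * a * g⁻¹) = g * a * g⁻¹ * (g * x * g⁻¹)
      rw [conj_mul, conj_mul, hc x hx a ha])
  refine ⟨k⁻¹ * g, mem_normalizer_iff_cj.2 (by rw [← cj_cj, he, cj_cj_inv]), ?_⟩
  have h1 := Subgroup.mem_centralizer_singleton_iff.1 hk
  calc k⁻¹ * g * a * (k⁻¹ * g)⁻¹ = k⁻¹ * (b * k) := by simp only [b]; group
    _ = k⁻¹ * (k * b) := by rw [h1]
    _ = b := by group

/-- The part of `A` in a subgroup whose Sylow subgroup is cut out by one containing `A`. -/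
theorem SC.inf {A K : Subgroup G} (h : SC A) {S : Sylow 2 G} (hAS : A ≤ (S : Subgroup G))
    {T : Subgroup G} (hT : SylIn 2 T K) (hTS : T ≤ (S : Subgroup G)) :
    SC ((A ⊓ K).subgroupOf K) ∧ A ⊓ K ≤ T := by
  haveI : Fact (Nat.Prime 2) := ⟨Nat.prime_two⟩
  have hSK : (S : Subgroup G) ⊓ K = T :=
    hT.eq_of_le S.isPGroup'.to_inf_left (le_inf hTS hT.le) inf_le_right
  have hle : A ⊓ K ≤ T := hSK ▸ inf_le_inf_right K hAS
  obtain ⟨P, hP⟩ := hT.exists_sylow_subgroupOf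
  refine ⟨⟨P, ?_, fun x hx g hg => ?_⟩, hle⟩
  · rw [hP]; exact Subgroup.comap_mono hle
  · rw [hP, Subgroup.mem_subgroupOf] at hg
    rw [Subgroup.mem_subgroupOf, Subgroup.mem_inf] at hx ⊢
    have h1 := (h.closed_in hAS).2 _ hx.1 (g : G) (by simpa using hTS hg)
    exact ⟨by simpa using h1, (g * x * g⁻¹).2⟩

theorem SC.subgroupOf {A K : Subgroup G} (h : SC A) (hAK : A ≤ K) : SC (A.subgroupOf K) := by
  haveI : Fact (Nat.Prime 2) := ⟨Nat.prime_two⟩
  obtain ⟨T, hT, hAT⟩ := exists_sylIn_ge h.isPGroup hAK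
  obtain ⟨S, hS⟩ := hT.isPGroup.exists_le_sylow
  have := (h.inf (hAT.trans hS) hT hS).1
  rwa [inf_eq_left.2 hAK] at this

omit [Finite G] in
theorem Cond.subgroupOf {A K : Subgroup G} (h : Cond (autOn A)) (hAK : A ≤ K) :
    Cond (autOn (A.subgroupOf K)) := by
  refine h.transfer (Subgroup.subgroupOfEquivOfLe hAK).symm fun m hm => ⟨m, ?_, fun a hn => rfl⟩
  rw [← Subgroup.subgroupOf_normalizer_eq hAK] at hm
  exact hm

end Cfsg.Agent.Local.SCA
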