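import Cfsg.Agent.Lib.Local.SCAbelian.Quot
import Cfsg.Agent.Lib.SSF.Main
import Cfsg.Agent.Lib.OddChar.FT.NoMinimal
import Cfsg.Agent.Lib.OddChar.FT.Final
import Mathlib

/-!
Centralisers of the elements of a strongly closed elementary abelian two-subgroup, and the subgroup they generate.
-/

set_option autoImplicit false
set_option linter.style.haveILetI false

namespace Cfsg.Agent.Local.SCA

open Cfsg Cfsg.Agent.Fusion

universe u

variable {G : Type u} [Group G] [Finite G]

/-- The conclusion. -/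
def Concl (A : Subgroup G) : Prop := (A ⊔ oddCore G).Normal

theorem core_odd (x : G) : Odd (Nat.card (centralizerPPrimeCore 2 x)) :=
  Nat.coprime_two_right.1 (LocBal.core_coprime (p := 2) x)

theorem oddCore_odd' : Odd (Nat.card (oddCore G)) :=
  Nat.coprime_two_right.1 (card_pPrimeCore_coprime 2 G)

theorem inf_eq_bot_of_odd {A B : Subgroup G} (hA : IsPGroup 2 A) (hB : Odd (Nat.card B)) : A ⊓ B = ⊥ := by
  haveI : Fact (Nat.Prime 2) := ⟨Nat.prime_two⟩
  obtain ⟨k, hk⟩ := hA.exists_card_eq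
  exact Subgroup.inf_eq_bot_of_coprime (by rw [hk]; exact (Nat.coprime_two_left.2 hB).pow_left k)

/-- A product of odd subgroups, one normalising the other, is odd. -/
theorem sup_odd {M H : Subgroup G} (h : H ≤ Subgroup.normalizer (M : Set G)) (hM : Odd (Nat.card M))
    (hH : Odd (Nat.card H)) : Odd (Nat.card (M ⊔ H : Subgroup G)) := by
  set N := Subgroup.normalizer (M : Set G) with hN
  haveI : (M.subgroupOf N).Normal := Subgroup.normal_in_normalizer
  have hMN : M ≤ N := Subgroup.le_normalizer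
  have h1 := card_sup_dvd (M.subgroupOf N) (H.subgroupOf N)
  rw [← sup_comm, ← Subgroup.subgroupOf_sup hMN h, Nat.card_congr (Subgroup.subgroupOfEquivOfLe (sup_le hMN h)).toEquiv,
    Nat.card_congr (Subgroup.subgroupOfEquivOfLe hMN).toEquiv,
    Nat.card_congr (Subgroup.subgroupOfEquivOfLe h).toEquiv] at h1
  exact (hH.mul hM).of_dvd_nat h1

/-- An odd subgroup of a subgroup normalised by it lies in the image of its odd core. -/
theorem le_map_oddCore {D K : Subgroup G} (hDK : D ≤ K) (hn : K ≤ Subgroup.normalizer (D : Set G))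
    (hodd : Odd (Nat.card D)) : D ≤ (oddCore K).map K.subtype := by
  haveI := (Subgroup.normal_subgroupOf_iff_le_normalizer hDK).2 hn
  rw [← Subgroup.map_subgroupOf_eq_of_le hDK]
  refine Subgroup.map_mono (le_pPrimeCore (Nat.coprime_two_right.2 ?_))
  rw [← Solv.card_map_subtype, Subgroup.map_subgroupOf_eq_of_le hDK]
  exact hodd

theorem le_core {D : Subgroup G} {x : G} (hD : D ≤ Subgroup.centralizer ({x} : Set G))
    (hn : Subgroup.centralizer ({x} : Set G) ≤ Subgroup.normalizer (D : Set G))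
    (hodd : Odd (Nat.card D)) : D ≤ centralizerPPrimeCore 2 x := le_map_oddCore hD hn hodd

theorem cj_centralizer_singleton (x g : G) :
    cj (Subgroup.centralizer ({x} : Set G)) g = Subgroup.centralizer ({g * x * g⁻¹} : Set G) := by
  ext y
  rw [mem_cj, Subgroup.mem_centralizer_singleton_iff, Subgroup.mem_centralizer_singleton_iff]
  constructor
  · intro h
    calc y * (g * x * g⁻¹) = g * (g⁻¹ * y * g * x) * g⁻¹ := by group
      _ = g * (x * (g⁻¹ * y * g)) * g⁻¹ := by rw [h]
      _ = g * x * g⁻¹ * y := by group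
  · intro h
    calc g⁻¹ * y * g * x = g⁻¹ * (y * (g * x * g⁻¹)) * g := by group
      _ = g⁻¹ * (g * x * g⁻¹ * y) * g := by rw [h]
      _ = x * (g⁻¹ * y * g) := by group

theorem cj_core_le (x g : G) : cj (centralizerPPrimeCore 2 x) g ≤ centralizerPPrimeCore 2 (g * x * g⁻¹) := by
  refine le_core ?_ ?_ (by rw [card_cj]; exact core_odd x)
  · rw [← cj_centralizer_singleton]
    exact cj_mono (LocBal.core_le_centralizer x) g
  · rw [← cj_centralizer_singleton, ← cj_normalizer]
    exact cj_mono (LocBal.centralizer_le_normalizer_core x) g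

/-- Every element is an element of the normaliser times one of the odd core. -/
theorem factor {A : Subgroup G} (hA : IsPGroup 2 A) (hn : Concl A) (g : G) :
    ∃ o ∈ oddCore G, o * g ∈ Subgroup.normalizer (A : Set G) := by
  haveI : Fact (Nat.Prime 2) := ⟨Nat.prime_two⟩
  haveI : (oddCore G).Normal := Solv.pPrimeCore_normal 2
  haveI : (A ⊔ oddCore G).Normal := hn
  have hS : SylIn 2 A (A ⊔ oddCore G) := by
    refine ⟨le_sup_left, hA, ?_⟩
    have h1 : Nat.card (A ⊔ oddCore G : Subgroup G) ∣ Nat.card A * Nat.card (oddCore G) := by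
      exact card_sup_dvd (oddCore G) A
    have hle : A ≤ A ⊔ oddCore G := le_sup_left
    have h2 : A.relIndex (A ⊔ oddCore G) * Nat.card A = Nat.card (A ⊔ oddCore G : Subgroup G) := by
      rw [Subgroup.relIndex, ← Nat.card_congr (Subgroup.subgroupOfEquivOfLe hle).toEquiv, Subgroup.index_mul_card]
    rw [← h2] at h1
    rw [mul_comm (Nat.card A)] at h1
    have h3 : A.relIndex (A ⊔ oddCore G) ∣ Nat.card (oddCore G) :=
      Nat.dvd_of_mul_dvd_mul_right Nat.card_pos h1
    exact fun h => Nat.not_even_iff_odd.2 oddCore_odd' (even_iff_two_dvd.2 (h.trans h3))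
  obtain ⟨m, hm, hmn⟩ := frattini_conj (H := ⊤) hS (by rw [Subgroup.normalizer_eq_top]) (Subgroup.mem_top g)
  obtain ⟨a, ha, o, ho, rfl⟩ := Subgroup.mem_sup_of_normal_right.1 hm
  refine ⟨o, ho, ?_⟩
  have := mul_mem ((Subgroup.normalizer (A : Set G)).inv_mem (Subgroup.le_normalizer ha)) hmn
  rwa [show a⁻¹ * (a * o * g) = o * g by group] at this

/-- The theorem is known for the proper subgroups. -/
def Below (G : Type u) [Group G] [Finite G] : Prop :=
  ∀ K : Subgroup G, K ≠ ⊤ → ∀ B : Subgroup G, B ≤ K → IsElementaryAbelian 2 B → SC (B.subgroupOf K) →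
    Cond (autOn (B.subgroupOf K)) → Concl (B.subgroupOf K)

omit [Finite G] in
theorem elemAb_subgroupOf {p : ℕ} {B : Subgroup G} (hB : IsElementaryAbelian p B) (K : Subgroup G) :
    IsElementaryAbelian p (B.subgroupOf K) :=
  ⟨⟨⟨fun x y => Subtype.ext (Subtype.ext (show ((x : K) : G) * ((y : K) : G) = (y : K) * (x : K) from
      congrArg Subtype.val (hB.1.is_comm.comm (⟨_, x.2⟩ : B) ⟨_, y.2⟩)))⟩⟩,
    fun a ha => Subtype.ext (hB.2 _ ha)⟩

theorem Below.cent_factor (hb : Below G) {x : G} (hx : Subgroup.centralizer ({x} : Set G) ≠ ⊤)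
    {B : Subgroup G} (hBC : B ≤ Subgroup.centralizer ({x} : Set G)) (hB : IsElementaryAbelian 2 B)
    (hsc : SC (B.subgroupOf (Subgroup.centralizer ({x} : Set G))))
    (hc : Cond (autOn (B.subgroupOf (Subgroup.centralizer ({x} : Set G)))))
    {g : G} (hg : g ∈ Subgroup.centralizer ({x} : Set G)) :
    ∃ o ∈ centralizerPPrimeCore 2 x, o * g ∈ Subgroup.normalizer (B : Set G) := by
  obtain ⟨o, ho, hn⟩ := factor hsc.isPGroup (hb _ hx B hBC hB hsc hc) ⟨g, hg⟩
  rw [← Subgroup.subgroupOf_normalizer_eq hBC] at hn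
  exact ⟨o, ⟨o, ho, rfl⟩, hn⟩

variable {A : Subgroup G}

omit [Finite G] in
theorem comm_of_mem (hA : IsElementaryAbelian 2 A) {x y : G} (hx : x ∈ A) (hy : y ∈ A) : x * y = y * x :=
  congrArg Subtype.val (hA.1.is_comm.comm ⟨x, hx⟩ ⟨y, hy⟩)

omit [Finite G] in
theorem le_centralizer_of_mem (hA : IsElementaryAbelian 2 A) {a : G} (ha : a ∈ A) :
    A ≤ Subgroup.centralizer ({a} : Set G) := fun _ hx =>
  Subgroup.mem_centralizer_singleton_iff.2 (comm_of_mem hA hx ha)

/-- The centraliser of an element of `A` factorises. -/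
theorem Below.cent_mem (hb : Below G) (hA : IsElementaryAbelian 2 A) (hsc : SC A) (hc : Cond (autOn A))
    {a : G} (ha : a ∈ A) (hne : Subgroup.centralizer ({a} : Set G) ≠ ⊤) {g : G}
    (hg : g ∈ Subgroup.centralizer ({a} : Set G)) :
    ∃ o ∈ centralizerPPrimeCore 2 a, o * g ∈ Subgroup.normalizer (A : Set G) :=
  hb.cent_factor hne (le_centralizer_of_mem hA ha) hA (hsc.subgroupOf (le_centralizer_of_mem hA ha))
    (hc.subgroupOf (le_centralizer_of_mem hA ha)) hg

omit [Finite G] in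
theorem mem_centralizer_A {n : G} (h : ∀ a ∈ A, n * a = a * n) : n ∈ Subgroup.centralizer (A : Set G) :=
  Subgroup.mem_centralizer_iff.2 fun a ha => (h a ha).symm

/-- The cores are balanced. -/
theorem Below.balance (hb : Below G) (hA : IsElementaryAbelian 2 A) (hsc : SC A) (hc : Cond (autOn A))
    {a b : G} (ha : a ∈ A) (hbA : b ∈ A) (hne : Subgroup.centralizer ({b} : Set G) ≠ ⊤) :
    centralizerPPrimeCore 2 a ⊓ Subgroup.centralizer {b} ≤ centralizerPPrimeCore 2 b := by
  haveI : Fact (Nat.Prime 2) := ⟨Nat.prime_two⟩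
  set D := centralizerPPrimeCore 2 a ⊓ Subgroup.centralizer {b}
  set Ob := centralizerPPrimeCore 2 b
  set Cb := Subgroup.centralizer ({b} : Set G)
  set CA := Subgroup.centralizer (A : Set G)
  have hObn : Cb ≤ Subgroup.normalizer (Ob : Set G) := LocBal.centralizer_le_normalizer_core b
  have hCAa : ∀ {x : G}, x ∈ A → CA ≤ Subgroup.centralizer ({x} : Set G) := fun hx =>
    Subgroup.centralizer_le (Set.singleton_subset_iff.2 hx)
  have hCAD : ∀ {k : G}, k ∈ CA → k ∈ Subgroup.normalizer (D : Set G) := by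
    intro k hk
    refine mem_normalizer_of_cj_le ?_
    rw [cj_inf, cj_eq_self (LocBal.centralizer_le_normalizer_core a (hCAa ha hk)),
      cj_eq_self (Subgroup.le_normalizer (hCAa hbA hk))]
  have hDb : D ≤ Cb := inf_le_right
  have hDodd : Odd (Nat.card D) := (core_odd a).of_dvd_nat (Subgroup.card_dvd_of_le inf_le_left)
  set J := Ob ⊔ D with hJ
  have hJodd : Odd (Nat.card J) := sup_odd (hDb.trans hObn) (core_odd b) hDodd
  set K := Ob ⊔ CA with hK
  have hKC : K ≤ Cb := sup_le (LocBal.core_le_centralizer b) (hCAa hbA)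
  have hOK : Ob ≤ K := le_sup_left
  have hDK : D ≤ K := by
    intro d hd
    obtain ⟨o, ho, hn⟩ := hb.cent_mem hA hsc hc hbA hne (hDb hd)
    have hoC : o * d ∈ CA := by
      refine mem_centralizer_A fun x hx => ?_
      have h1 : (o * d) * x * (o * d)⁻¹ * x⁻¹ ∈ A := A.mul_mem (conj_mem hn hx) (A.inv_mem hx)
      have hxC : x ∈ Subgroup.centralizer (A : Set G) := mem_centralizer_A fun y hy => comm_of_mem hA hx hy
      have h2 : (o * d) * x * (o * d)⁻¹ * x⁻¹ ∈ J := by
        rw [show (o * d) * x * (o * d)⁻¹ * x⁻¹ = o * (d * (x * d⁻¹ * x⁻¹)) * (x * o⁻¹ * x⁻¹) by group]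
        refine mul_mem (mul_mem (Subgroup.mem_sup_left ho) (Subgroup.mem_sup_right (D.mul_mem hd ?_))) ?_
        · exact (Subgroup.mem_normalizer_iff.1 (hCAD hxC) _).1 (D.inv_mem hd)
        · exact Subgroup.mem_sup_left
            ((Subgroup.mem_normalizer_iff.1 (hObn (hCAa hbA hxC)) _).1 (Ob.inv_mem ho))
      have h3 : (o * d) * x * (o * d)⁻¹ * x⁻¹ ∈ A ⊓ J := ⟨h1, h2⟩
      rw [inf_eq_bot_of_odd hsc.isPGroup hJodd, Subgroup.mem_bot, mul_inv_eq_one, mul_inv_eq_iff_eq_mul] at h3
      exact h3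
    have := K.mul_mem (K.inv_mem (hOK ho)) (Subgroup.mem_sup_right hoC)
    rwa [inv_mul_cancel_left] at this
  have hKJ : K ≤ Subgroup.normalizer (J : Set G) := by
    refine sup_le (fun o ho => Subgroup.le_normalizer (Subgroup.mem_sup_left ho)) fun k hk => ?_
    refine mem_normalizer_of_cj_le ?_
    rw [hJ, cj_sup, cj_eq_self (hObn (hCAa hbA hk)), cj_eq_self (hCAD hk)]
  have hnK : Cb ≤ Subgroup.normalizer (K : Set G) := by
    intro g hg
    obtain ⟨o, ho, hn⟩ := hb.cent_mem hA hsc hc hbA hne hg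
    have hoC : o ∈ Cb := LocBal.core_le_centralizer b ho
    have h1 : o * g ∈ Subgroup.normalizer (K : Set G) := by
      refine mem_normalizer_of_cj_le ?_
      rw [hK, cj_sup, cj_eq_self (hObn (mul_mem hoC hg)), cj_centralizer, cj_eq_self hn]
    have := mul_mem ((Subgroup.normalizer (K : Set G)).inv_mem (Subgroup.le_normalizer (hOK ho))) h1
    rwa [inv_mul_cancel_left] at this
  set M := (oddCore K).map K.subtype with hM
  have hJM : J ≤ M := le_map_oddCore (sup_le hOK hDK) hKJ hJodd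
  have hMO : M ≤ Ob := le_core ((Subgroup.map_subtype_le _).trans hKC)
    (hnK.trans (LocBal.normalizer_le_map_core K)) (by rw [hM, Solv.card_map_subtype]; exact oddCore_odd')
  exact le_sup_right.trans (hJM.trans hMO)

/-- A proper subgroup holds the normaliser and the centralisers. -/
theorem Below.exists_proper (hb : Below G) (hO : oddCore G = ⊥) (hA : IsElementaryAbelian 2 A) (hsc : SC A)
    (hc : Cond (autOn A)) (h8 : 2 ^ 3 ≤ Nat.card A) (hn : ¬ A.Normal)
    (hne : ∀ a ∈ A, a ≠ 1 → Subgroup.centralizer ({a} : Set G) ≠ ⊤) :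
    ∃ H : Subgroup G, H ≠ ⊤ ∧ Subgroup.normalizer (A : Set G) ≤ H ∧
      ∀ a ∈ A, a ≠ 1 → Subgroup.centralizer ({a} : Set G) ≤ H := by
  haveI : Fact (Nat.Prime 2) := ⟨Nat.prime_two⟩
  let θ : G → Subgroup G := fun a => centralizerPPrimeCore 2 a
  have hθ : IsSolvableSignalizerFunctor 2 A θ := by
    refine ⟨⟨fun a _ _ => LocBal.core_le_centralizer a, fun a _ _ => (core_odd a).not_two_dvd_nat,
      fun a ha _ b hbA x hx => (Subgroup.mem_normalizer_iff.1
        (LocBal.centralizer_le_normalizer_core a (le_centralizer_of_mem hA ha hbA)) x).1 hx,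
      fun a ha _ b hbA hb1 => hb.balance hA hsc hc ha hbA (hne b hbA hb1)⟩,
      fun a _ _ => OddFT.odd_solvable_of_no_min (fun _ _ _ h => OddFT.no_minSimple _ h) (core_odd a)⟩
  obtain ⟨hfam, -⟩ := SSF.complete_of_odd hA h8 hθ fun a _ _ => core_odd a
  set W : Subgroup G := ⨆ a : {a : G // a ∈ A ∧ a ≠ 1}, θ (a : G) with hW
  have hθW : ∀ a ∈ A, a ≠ 1 → θ a ≤ W := fun a ha ha1 =>
    le_iSup (fun a : {a : G // a ∈ A ∧ a ≠ 1} => θ (a : G)) ⟨a, ha, ha1⟩
  have hN : ∀ n ∈ Subgroup.normalizer (A : Set G), n ∈ Subgroup.normalizer (W : Set G) := by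
    intro n hn
    refine mem_normalizer_of_cj_le ?_
    rw [cj_le_iff, hW]
    refine iSup_le fun a => ?_
    rw [← cj_le_iff]
    exact (cj_core_le _ n).trans (hθW _ (conj_mem hn a.2.1) fun e => a.2.2 (conj_eq_one_iff.1 e))
  by_cases hW1 : W = ⊥
  · refine ⟨Subgroup.normalizer (A : Set G), fun e => hn (Subgroup.normalizer_eq_top_iff.1 e), le_rfl,
      fun a ha ha1 g hg => ?_⟩
    obtain ⟨o, ho, hog⟩ := hb.cent_mem hA hsc hc ha (hne a ha ha1) hg
    have : o ∈ W := hθW a ha ha1 ho
    rw [hW1, Subgroup.mem_bot] at this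
    rwa [this, one_mul] at hog
  · refine ⟨Subgroup.normalizer (W : Set G), fun e => hW1 ?_, hN, fun a ha ha1 g hg => ?_⟩
    · haveI := Subgroup.normalizer_eq_top_iff.1 e
      refine le_bot_iff.1 (hO ▸ le_pPrimeCore (Nat.coprime_two_right.2 ?_))
      exact Nat.not_even_iff_odd.1 fun h => hfam.2.1 (even_iff_two_dvd.1 h)
    · obtain ⟨o, ho, hog⟩ := hb.cent_mem hA hsc hc ha (hne a ha ha1) hg
      have := mul_mem ((Subgroup.normalizer (W : Set G)).inv_mem (Subgroup.le_normalizer (hθW a ha ha1 ho))) (hN _ hog)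
      rwa [inv_mul_cancel_left] at this

end Cfsg.Agent.Local.SCA
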