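import Cfsg.Agent.Lib.Local.SCAbelian.Core
import Cfsg.Agent.Lib.Char.ZStar
import Cfsg.Agent.Lib.Fusion.Involutions
import Cfsg.Agent.Lib.Solv.Generation
import Mathlib

/-!
A strongly closed elementary abelian two-subgroup with a small rigid automiser is normal modulo the odd core.
-/

set_option autoImplicit false
set_option linter.style.haveILetI false

namespace Cfsg.Agent.Local.SCA

open Cfsg Cfsg.Agent.Fusion

universe u

variable {G : Type u} [Group G] [Finite G] {A : Subgroup G}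

theorem mul_self_of_mem (hA : IsElementaryAbelian 2 A) {a : G} (ha : a ∈ A) : a * a = 1 := by
  rw [← pow_two]; exact hA.2 a ha

theorem orderOf_of_mem (hA : IsElementaryAbelian 2 A) {a : G} (ha : a ∈ A) (h1 : a ≠ 1) : orderOf a = 2 :=
  orderOf_eq_prime (hA.2 a ha) h1

theorem elemAb_cj (hA : IsElementaryAbelian 2 A) (k : G) : IsElementaryAbelian 2 (cj A k) :=
  ⟨⟨⟨fun x y => Subtype.ext <| by
      obtain ⟨_, u, hu, rfl⟩ := x
      obtain ⟨_, w, hw, rfl⟩ := y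
      exact ((map_mul (MulAut.conj k).toMonoidHom u w).symm.trans
        (congrArg _ (comm_of_mem hA hu hw))).trans (map_mul _ w u)⟩⟩,
    by rintro _ ⟨u, hu, rfl⟩; rw [← map_pow, hA.2 u hu, map_one]⟩

theorem fixed_of_two_group (hA : IsElementaryAbelian 2 A) (hne : A ≠ ⊥) (h : IsPGroup 2 (autOn A)) :
    ∃ a ∈ A, a ≠ 1 ∧ ∀ n ∈ Subgroup.normalizer (A : Set G), n * a * n⁻¹ = a := by
  haveI : Fact (Nat.Prime 2) := ⟨Nat.prime_two⟩
  obtain ⟨x, hx, hx1⟩ := (Subgroup.bot_or_exists_ne_one A).resolve_left hne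
  have hd : 2 ∣ Nat.card A := orderOf_of_mem hA hx hx1 ▸ Subgroup.orderOf_dvd_natCard A hx
  obtain ⟨a, ha, ha1⟩ := h.exists_fixed_point_of_prime_dvd_card_of_fixed_point A hd (a := 1)
    (fun g => map_one (g : MulAut A))
  refine ⟨a, a.2, fun e => ha1 (Subtype.ext e.symm), fun n hn => ?_⟩
  exact congrArg Subtype.val (ha ⟨Subgroup.normalizerMonoidHom A ⟨n, hn⟩, ⟨_, rfl⟩⟩)

/-- An element of `A` fixed by the normaliser is central. -/
theorem central_of_fixed (hO : oddCore G = ⊥) (hA : IsElementaryAbelian 2 A) (hsc : SC A) {a : G} (ha : a ∈ A)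
    (ha1 : a ≠ 1) (hfix : ∀ n ∈ Subgroup.normalizer (A : Set G), n * a * n⁻¹ = a) (g : G) : a * g = g * a := by
  haveI : Fact (Nat.Prime 2) := ⟨Nat.prime_two⟩
  obtain ⟨P, hP⟩ := hsc.isPGroup.exists_le_sylow
  refine Char.zStar_central (Char.oddInvol_of_isolated_sylow (orderOf_of_mem hA ha ha1) (hP ha) fun g hg => ?_) hO g
  obtain ⟨n, hn, he⟩ := hsc.fuse hA.1 ha ((hsc.closed_in hP).2 a ha g hg)
  rw [← he, hfix n hn]

theorem not_two_group (hO : oddCore G = ⊥) (hA : IsElementaryAbelian 2 A) (hsc : SC A) (hne : A ≠ ⊥)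
    (hnc : ∀ a ∈ A, a ≠ 1 → Subgroup.centralizer ({a} : Set G) ≠ ⊤) : ¬ IsPGroup 2 (autOn A) := fun h => by
  obtain ⟨a, ha, ha1, hfix⟩ := fixed_of_two_group hA hne h
  refine hnc a ha ha1 (top_le_iff.1 fun g _ => Subgroup.mem_centralizer_singleton_iff.2 ?_)
  exact (central_of_fixed hO hA hsc ha ha1 hfix g).symm

theorem exists_odd_of_not_two_group {X : Subgroup (MulAut A)} (h : ¬ IsPGroup 2 X) :
    ∃ α ∈ X, Odd (orderOf α) ∧ α ≠ 1 := by
  haveI : Fact (Nat.Prime 2) := ⟨Nat.prime_two⟩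
  simp only [IsPGroup, not_forall, not_exists] at h
  obtain ⟨g, hg⟩ := h
  obtain ⟨i, hi, -⟩ := exists_odd_pow (orderOf_pos (g : MulAut A))
  refine ⟨(g : MulAut A) ^ 2 ^ i, X.pow_mem g.2 _, hi, fun e => hg i (Subtype.ext ?_)⟩
  rw [Subgroup.coe_pow, e, Subgroup.coe_one]

theorem sixteen_le (hr : Rigid (autOn A)) (h2 : ¬ IsPGroup 2 (autOn A)) : 16 ≤ Nat.card A := by
  obtain ⟨α, hα, ho, h1⟩ := exists_odd_of_not_two_group h2
  haveI : Nonempty {v : A // α v = v} := ⟨⟨1, map_one α⟩⟩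
  have := hr.fix α hα ho h1
  have h3 : 1 ≤ Nat.card {v : A // α v = v} := Nat.card_pos
  omega

theorem two_classes (hA : IsElementaryAbelian 2 A) (hr : Rigid (autOn A)) (h16 : 16 ≤ Nat.card A) :
    ∃ a ∈ A, ∃ a' ∈ A, a ≠ 1 ∧ a' ≠ 1 ∧ ∀ n ∈ Subgroup.normalizer (A : Set G), n * a * n⁻¹ ≠ a' := by
  haveI : Fact (Nat.Prime 2) := ⟨Nat.prime_two⟩
  by_contra hcon
  push Not at hcon
  have hne : A ≠ ⊥ := fun e => by rw [e, Subgroup.card_bot] at h16; omega
  obtain ⟨x, hx, hx1⟩ := (Subgroup.bot_or_exists_ne_one A).resolve_left hne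
  set x' : A := ⟨x, hx⟩
  have horb : MulAction.orbit (autOn A) x' = {(1 : A)}ᶜ := by
    ext y
    constructor
    · rintro ⟨g, rfl⟩ h
      exact hx1 (congrArg Subtype.val ((g : MulAut A).map_eq_one_iff.1 h))
    · intro hy
      obtain ⟨n, hn, he⟩ := hcon x hx y y.2 hx1 (fun e => hy (Subtype.ext e))
      exact ⟨⟨Subgroup.normalizerMonoidHom A ⟨n, hn⟩, ⟨_, rfl⟩⟩, Subtype.ext he⟩
  have h1 := MulAction.index_stabilizer (autOn A) x'
  rw [horb, Set.ncard_compl, Set.ncard_singleton] at h1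
  obtain ⟨k, hk⟩ := hA.1.is_comm |> fun _ => (Cfsg.Agent.Local.elemAb_card_pow (p := 2) hA)
  have hdvd : Nat.card A - 1 ∣ 168 := h1 ▸ (Subgroup.index_dvd_card _).trans hr.dvd
  rw [hk] at hdvd h16
  have hk8 : k < 8 := by
    by_contra hk8
    have h2 : 2 ^ 8 ≤ 2 ^ k := Nat.pow_le_pow_right (by norm_num) (by omega)
    have h3 := Nat.le_of_dvd (by norm_num) hdvd
    omega
  interval_cases k <;> simp_all

/-- A subgroup containing the normaliser and all centralisers of `A`. -/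
structure Holds (A H : Subgroup G) : Prop where
  elem : IsElementaryAbelian 2 A
  sc : SC A
  cond : Cond (autOn A)
  norm : Subgroup.normalizer (A : Set G) ≤ H
  cent : ∀ a ∈ A, a ≠ 1 → Subgroup.centralizer ({a} : Set G) ≤ H

theorem Holds.cj {H : Subgroup G} (h : Holds A H) {k : G} (hk : k ∈ H) : Holds (Fusion.cj A k) H := by
  refine ⟨elemAb_cj h.elem k, h.sc.cj k, h.cond.cj k, ?_, ?_⟩
  · rw [← cj_normalizer, ← cj_eq_self_of_mem hk]
    exact cj_mono h.norm k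
  · rintro _ ⟨a, ha, rfl⟩ h1
    show Subgroup.centralizer ({k * a * k⁻¹} : Set G) ≤ H
    rw [← cj_centralizer_singleton, ← cj_eq_self_of_mem hk]
    exact cj_mono (h.cent a ha fun e => h1 (by rw [e, map_one])) k

omit [Finite G] in
theorem iterate_conj {n w : G} {B : Subgroup G} (hn : ∀ e ∈ B, n * e * n⁻¹ ∈ B)
    (h : ∀ e ∈ B, w * e * w⁻¹ = n * e * n⁻¹) :
    ∀ (j : ℕ), ∀ e ∈ B, w ^ j * e * (w ^ j)⁻¹ = n ^ j * e * (n ^ j)⁻¹ := by
  intro j
  induction j with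
  | zero => simp
  | succ j ih =>
    intro e he
    calc w ^ (j + 1) * e * (w ^ (j + 1))⁻¹ = w ^ j * (w * e * w⁻¹) * (w ^ j)⁻¹ := by rw [pow_succ]; group
      _ = n ^ j * (n * e * n⁻¹) * (n ^ j)⁻¹ := by rw [h e he, ih _ (hn e he)]
      _ = n ^ (j + 1) * e * (n ^ (j + 1))⁻¹ := by rw [pow_succ]; group

/-- The fused automiser in the centraliser of an outside involution. -/
theorem cond_inf (hb : Below G) {H : Subgroup G} (h : Holds A H) {a c : G} (ha : a ∈ A)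
    (hna : Subgroup.centralizer ({a} : Set G) ≠ ⊤) (hac : a * c = c * a) (hc2 : c * c = 1)
    (hcN : c ∈ Subgroup.normalizer (A : Set G)) :
    Cond (autOn ((A ⊓ Subgroup.centralizer ({c} : Set G)).subgroupOf (Subgroup.centralizer ({c} : Set G)))) := by
  haveI : Fact (Nat.Prime 2) := ⟨Nat.prime_two⟩
  set Cc := Subgroup.centralizer ({c} : Set G) with hCc
  by_cases hcA : A ≤ Cc
  · rw [inf_eq_left.2 hcA]; exact h.cond.subgroupOf hcA
  set B := A ⊓ Cc with hB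
  refine Or.inl fun β => ?_
  obtain ⟨m, hm, hβ⟩ := mem_autOn.1 β.2
  rw [← Subgroup.subgroupOf_normalizer_eq (inf_le_right : B ≤ Cc), Subgroup.mem_subgroupOf] at hm
  set n : G := (m : G) with hn
  have haB : a ∈ B := ⟨ha, Subgroup.mem_centralizer_singleton_iff.2 hac⟩
  set CB := Subgroup.centralizer (B : Set G) with hCB
  have hACB : A ≤ CB := fun x hx => Subgroup.mem_centralizer_iff.2 fun e he => comm_of_mem h.elem he.1 hx
  have hnAC : Fusion.cj A n ≤ CB := by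
    refine (cj_mono hACB n).trans ?_
    rw [hCB, cj_centralizer, cj_eq_self hm]
  obtain ⟨u, hu, hun⟩ := h.sc.conj_in hACB hnAC
  have hua : u ∈ Subgroup.centralizer ({a} : Set G) :=
    Subgroup.centralizer_le (Set.singleton_subset_iff.2 haB) hu
  obtain ⟨o, ho, hou⟩ := hb.cent_mem h.elem h.sc h.cond ha hna hua
  set Oa := centralizerPPrimeCore 2 a
  have hOa : A ⊓ Oa = ⊥ := inf_eq_bot_of_odd h.sc.isPGroup (core_odd a)
  have hOan : ∀ {x : G}, x ∈ Subgroup.centralizer ({a} : Set G) → ∀ {y : G}, y ∈ Oa → x * y * x⁻¹ ∈ Oa :=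
    fun hx _ hy => (Subgroup.mem_normalizer_iff.1 (LocBal.centralizer_le_normalizer_core a hx) _).1 hy
  have hAa : A ≤ Subgroup.centralizer ({a} : Set G) := le_centralizer_of_mem h.elem ha
  have hoB : ∀ e ∈ B, o * e * o⁻¹ = e := by
    intro e he
    have h1 : o * u * e * (o * u)⁻¹ = o * e * o⁻¹ := by
      rw [show o * u * e * (o * u)⁻¹ = o * (u * e * u⁻¹) * o⁻¹ by group,
        mul_inv_eq_of_eq_mul (Subgroup.mem_centralizer_iff.1 hu e he).symm]
    have h2 : o * e * o⁻¹ * e⁻¹ ∈ A ⊓ Oa := by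
      refine ⟨A.mul_mem (h1 ▸ conj_mem hou he.1) (A.inv_mem he.1), ?_⟩
      have := Oa.mul_mem ho (hOan (hAa he.1) (Oa.inv_mem ho))
      rwa [show o * (e * o⁻¹ * e⁻¹) = o * e * o⁻¹ * e⁻¹ by group] at this
    rwa [hOa, Subgroup.mem_bot, mul_inv_eq_one] at h2
  set w := o * n with hw
  have hwN : w ∈ Subgroup.normalizer (A : Set G) := by
    have hv : u⁻¹ * n ∈ Subgroup.normalizer (A : Set G) :=
      mem_normalizer_iff_cj.2 (by rw [← cj_cj, hun, cj_cj_inv])
    have := mul_mem hou hv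
    rwa [show o * u * (u⁻¹ * n) = w by rw [hw]; group] at this
  have hnB : ∀ e ∈ B, n * e * n⁻¹ ∈ B := fun e he => conj_mem hm he
  have hwB : ∀ e ∈ B, w * e * w⁻¹ = n * e * n⁻¹ := fun e he => by
    rw [show w * e * w⁻¹ = o * (n * e * n⁻¹) * o⁻¹ by rw [hw]; group, hoB _ (hnB e he)]
  have hnc : n * c = c * n := Subgroup.mem_centralizer_singleton_iff.1 m.2
  set z := w * c * w⁻¹ * c⁻¹ with hz
  have hzN : z ∈ Subgroup.normalizer (A : Set G) := mul_mem (mul_mem (mul_mem hwN hcN) (inv_mem hwN)) (inv_mem hcN)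
  have hca : c ∈ Subgroup.centralizer ({a} : Set G) := Subgroup.mem_centralizer_singleton_iff.2 hac.symm
  have hzO : z ∈ Oa := by
    have h1 : z = o * (c * o⁻¹ * c⁻¹) := by
      rw [hz, hw, show o * n * c * (o * n)⁻¹ * c⁻¹ = o * (n * c * n⁻¹) * o⁻¹ * c⁻¹ by group,
        mul_inv_eq_of_eq_mul hnc]
      group
    rw [h1]; exact Oa.mul_mem ho (hOan hca (Oa.inv_mem ho))
  have hzC : ∀ x ∈ A, z * x * z⁻¹ = x := by
    intro x hx
    have h2 : z * x * z⁻¹ * x⁻¹ ∈ A ⊓ Oa := by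
      refine ⟨A.mul_mem (conj_mem hzN hx) (A.inv_mem hx), ?_⟩
      have := Oa.mul_mem hzO (hOan (hAa hx) (Oa.inv_mem hzO))
      rwa [show z * (x * z⁻¹ * x⁻¹) = z * x * z⁻¹ * x⁻¹ by group] at this
    rwa [hOa, Subgroup.mem_bot, mul_inv_eq_one] at h2
  set φ := Subgroup.normalizerMonoidHom A
  set ω := φ ⟨w, hwN⟩ with hω
  set γ := φ ⟨c, hcN⟩ with hγ
  have hγ2 : γ * γ = 1 := by
    rw [hγ, ← map_mul, show (⟨c, hcN⟩ * ⟨c, hcN⟩ : Subgroup.normalizer (A : Set G)) = 1 from Subtype.ext hc2,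
      map_one]
  have hγ1 : γ ≠ 1 := fun e => hcA fun x hx => Subgroup.mem_centralizer_singleton_iff.2 <| by
    have h1 : c * x * c⁻¹ = x :=
      congrArg (fun y : A => (y : G)) (DFunLike.congr_fun e (⟨x, hx⟩ : A))
    exact (mul_inv_eq_iff_eq_mul.1 h1).symm
  have hωγ : ω * γ = γ * ω := MulEquiv.ext fun x => Subtype.ext <| by
    show w * (c * x * c⁻¹) * w⁻¹ = c * (w * x * w⁻¹) * c⁻¹
    calc w * (c * (x : G) * c⁻¹) * w⁻¹ = z * (c * (w * x * w⁻¹) * c⁻¹) * z⁻¹ := by rw [hz]; group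
      _ = c * (w * x * w⁻¹) * c⁻¹ := hzC _ (conj_mem hcN (conj_mem hwN x.2))
  obtain ⟨i, hi⟩ : ∃ i : ℕ, ω ^ 2 ^ i = 1 := by
    rcases h.cond with h2 | hr
    · obtain ⟨i, hi⟩ := h2 ⟨ω, ⟨_, rfl⟩⟩
      exact ⟨i, congrArg Subtype.val hi⟩
    · obtain ⟨i, ho', -⟩ := exists_odd_pow (orderOf_pos ω)
      refine ⟨i, by_contra fun h1 => hr.pair _ (Subgroup.pow_mem _ (MonoidHom.mem_range.2 ⟨_, hω.symm⟩) _) γ
        ⟨_, rfl⟩ ho' h1 hγ2 hγ1 ?_⟩
      exact (Commute.pow_left hωγ _).eq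
  refine ⟨i, Subtype.ext <| MulEquiv.ext fun e => Subtype.ext <| Subtype.ext ?_⟩
  have hpow : ∀ (j : ℕ) (e : ↥(B.subgroupOf Cc)),
      ((((β : MulAut ↥(B.subgroupOf Cc)) ^ j) e : ↥(B.subgroupOf Cc)) : Cc) = m ^ j * (e : Cc) * (m ^ j)⁻¹ := by
    intro j
    induction j with
    | zero => intro e; simp
    | succ j ih => intro e; rw [pow_succ, MulAut.mul_apply, ih, hβ, pow_succ]; group
  rw [Subgroup.coe_pow, hpow, Subgroup.coe_mul, Subgroup.coe_mul, Subgroup.coe_inv, Subgroup.coe_pow, ← hn,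
    Subgroup.coe_one, MulAut.one_apply]
  have heB : ((e : Cc) : G) ∈ B := e.2
  rw [← iterate_conj hnB hwB (2 ^ i) _ heB]
  have h3 := DFunLike.congr_fun hi (⟨_, heB.1⟩ : A)
  rw [hω, ← map_pow, MulAut.one_apply] at h3
  exact congrArg (fun y : A => (y : G)) h3

/-- An involution commuting with a companion of `a` that is conjugate into `A` lies in `H`. -/
theorem mem_of_commute_invol (hb : Below G) {H : Subgroup G} (h : Holds A H)
    (hnc : ∀ x : G, x ≠ 1 → x * x = 1 → Subgroup.centralizer ({x} : Set G) ≠ ⊤) {a c a' g : G}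
    (ha : a ∈ A) (ha1 : a ≠ 1) (ha' : a' ∈ A) (ha'1 : a' ≠ 1) (hc2 : c * c = 1) (hc1 : c ≠ 1)
    (hac : a * c = c * a) (hbc : (g * a' * g⁻¹) * c = c * (g * a' * g⁻¹))
    (hconj : ∀ t : G, t * (g * a' * g⁻¹) * t⁻¹ ≠ a) : g * a' * g⁻¹ ∈ H := by
  haveI : Fact (Nat.Prime 2) := ⟨Nat.prime_two⟩
  set b := g * a' * g⁻¹ with hbdef
  set Cc := Subgroup.centralizer ({c} : Set G) with hCc
  have hoc : orderOf c = 2 := orderOf_eq_prime (by rw [pow_two]; exact hc2) hc1
  have hQ := isPGroup_closure_commuting (orderOf_of_mem h.elem ha ha1) hoc hac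
  have hQC : Subgroup.closure ({a, c} : Set G) ≤ Cc := by
    rw [Subgroup.closure_le]
    rintro x (rfl | rfl) <;> rw [SetLike.mem_coe, Subgroup.mem_centralizer_singleton_iff]
    exact hac
  obtain ⟨T₀, hT₀, hQT⟩ := exists_sylIn_ge hQ hQC
  have haT : a ∈ T₀ := hQT (Subgroup.subset_closure (by simp))
  have hcT : c ∈ T₀ := hQT (Subgroup.subset_closure (by simp))
  obtain ⟨k₀, S, hTS, hAS, hcover⟩ := h.sc.exists_cover hT₀.isPGroup
  have hak : a ∈ Fusion.cj A k₀ := by simpa using hcover a ha 1 (by simpa using haT)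
  obtain ⟨a₀, ha₀, ha₀e⟩ := hak
  change k₀ * a₀ * k₀⁻¹ = a at ha₀e
  obtain ⟨ν, hν, hνe⟩ := h.sc.fuse h.elem.1 ha₀ (ha₀e.symm ▸ ha : k₀ * a₀ * k₀⁻¹ ∈ A)
  rw [ha₀e] at hνe
  set k := k₀ * ν⁻¹ with hk
  have hkA : Fusion.cj A k = Fusion.cj A k₀ := by rw [hk, ← cj_cj, cj_eq_self (inv_mem hν)]
  have hka : k * a * k⁻¹ = a := by
    calc k * a * k⁻¹ = k₀ * a₀ * k₀⁻¹ := by rw [hk, ← hνe]; group
      _ = a := ha₀e
  have hkH : k ∈ H := h.cent a ha ha1 (Subgroup.mem_centralizer_singleton_iff.2 (mul_inv_eq_iff_eq_mul.1 hka))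
  set A' := Fusion.cj A k with hA'
  have h' : Holds A' H := h.cj hkH
  have haA' : a ∈ A' := ⟨a, ha, hka⟩
  have hA'S : A' ≤ (S : Subgroup G) := hkA.le.trans hAS
  set B := A' ⊓ Cc with hB
  obtain ⟨hscB, -⟩ := h'.sc.inf hA'S hT₀ hTS
  have haB : a ∈ B := ⟨haA', Subgroup.mem_centralizer_singleton_iff.2 hac⟩
  have hBel : IsElementaryAbelian 2 B := Cfsg.Agent.Local.elemAb_mono h'.elem inf_le_left
  have hcondB := cond_inf hb h' haA' (hnc a ha1 (mul_self_of_mem h.elem ha)) hac hc2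
    (h'.sc.le_normalizer hA'S (hTS hcT))
  have hfac : ∀ {y : G}, y ∈ Cc → ∃ o ∈ centralizerPPrimeCore 2 c, o * y ∈ Subgroup.normalizer (B : Set G) :=
    fun hy => hb.cent_factor (hnc c hc1 hc2) inf_le_right hBel hscB hcondB hy
  have hbCc : b ∈ Cc := Subgroup.mem_centralizer_singleton_iff.2 hbc
  have hob : orderOf b = 2 := (orderOf_injective (MulAut.conj g).toMonoidHom (MulAut.conj g).injective a').trans
    (orderOf_of_mem h.elem ha' ha'1)
  obtain ⟨x, hx, hxT⟩ := hT₀.conj_le (IsPGroup.of_card (n := 1) (by rw [Nat.card_zpowers, hob]; rfl))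
    (Subgroup.zpowers_le.2 hbCc)
  have hxb : x * b * x⁻¹ ∈ T₀ := hxT (conj_mem_cj (Subgroup.mem_zpowers b))
  set e := x * b * x⁻¹ with he
  have heA' : e ∈ A' := by
    rw [hkA]
    have h2 := hcover a' ha' (x * g) (by rwa [show x * g * a' * (x * g)⁻¹ = e by rw [he, hbdef]; group])
    rwa [show x * g * a' * (x * g)⁻¹ = e by rw [he, hbdef]; group] at h2
  have heB : e ∈ B := ⟨heA', hT₀.le hxb⟩
  set Oc := centralizerPPrimeCore 2 c
  have hBn : B ≤ Subgroup.normalizer (Oc : Set G) := inf_le_right.trans (LocBal.centralizer_le_normalizer_core c)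
  have hbB : b ∈ Oc ⊔ B := by
    obtain ⟨o, ho, hoN⟩ := hfac hx
    have hoC : o ∈ Cc := LocBal.core_le_centralizer c ho
    have hνC : o * x ∈ Cc := mul_mem hoC hx
    set ν' := o * x
    have hb' : b = (ν'⁻¹ * (o * e * o⁻¹ * e⁻¹) * ν') * (ν'⁻¹ * e * ν') := by
      simp only [ν', he]; group
    rw [hb']
    refine mul_mem (Subgroup.mem_sup_left ?_) (Subgroup.mem_sup_right ?_)
    · have h1 : o * (e * o⁻¹ * e⁻¹) ∈ Oc :=
        Oc.mul_mem ho ((Subgroup.mem_normalizer_iff.1 (hBn heB) _).1 (Oc.inv_mem ho))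
      rw [show o * (e * o⁻¹ * e⁻¹) = o * e * o⁻¹ * e⁻¹ by group] at h1
      exact (Subgroup.mem_normalizer_iff''.1 (LocBal.centralizer_le_normalizer_core c hνC) _).1 h1
    · exact (Subgroup.mem_normalizer_iff''.1 hoN _).1 heB
  have hBH : B ≤ H := inf_le_left.trans (Subgroup.le_normalizer.trans h'.norm)
  have hOcH : Oc ≤ H := by
    have hco : (Nat.card B).Coprime (Nat.card Oc) := by
      obtain ⟨j, hj⟩ := (h'.sc.isPGroup.to_le (inf_le_left : B ≤ A')).exists_card_eq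
      rw [hj]; exact (Nat.coprime_two_left.2 (core_odd c)).pow_left _
    rw [← Solv.gen_eq B Oc hBel.1 hBn hco]
    refine iSup₂_le fun R hR => ?_
    obtain ⟨hRB, r, hr, hsup⟩ := hR
    have hRne : R ≠ ⊥ := by
      intro hRb
      rw [hRb, bot_sup_eq] at hsup
      have hone : ∀ y ∈ B, y = 1 ∨ y = r := by
        intro y hy
        rw [← hsup] at hy
        obtain ⟨j, rfl⟩ := hy
        have hrr : r ^ (2 : ℤ) = 1 := by rw [zpow_two]; exact mul_self_of_mem hBel hr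
        rcases Int.even_or_odd j with ⟨t, rfl⟩ | ⟨t, rfl⟩
        · left; simp only; rw [← two_mul, zpow_mul, hrr, one_zpow]
        · right; simp only; rw [zpow_add, zpow_mul, hrr, one_zpow, one_mul, zpow_one]
      have he1 : e ≠ 1 := fun e1 => by
        have : orderOf e = 2 := by
          rw [← hob]; exact orderOf_injective (MulAut.conj x).toMonoidHom (MulAut.conj x).injective b
        rw [e1, orderOf_one] at this; omega
      rcases hone a haB with h1 | h1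
      · exact ha1 h1
      rcases hone e heB with h2 | h2
      · exact he1 h2
      exact hconj x (h2.trans h1.symm)
    obtain ⟨y, hy, hy1⟩ := (Subgroup.bot_or_exists_ne_one R).resolve_left hRne
    exact inf_le_right.trans ((Subgroup.centralizer_le (Set.singleton_subset_iff.2 hy)).trans
      (h'.cent y (hRB hy).1 hy1))
  exact sup_le hOcH hBH hbB

/-- The main step. -/
theorem normal_of_rigid (hb : Below G) (hO : oddCore G = ⊥) (hA : IsElementaryAbelian 2 A) (hsc : SC A)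
    (hc : Cond (autOn A)) (hne : A ≠ ⊥)
    (hnc : ∀ x : G, x ≠ 1 → x * x = 1 → Subgroup.centralizer ({x} : Set G) ≠ ⊤) : A.Normal := by
  haveI : Fact (Nat.Prime 2) := ⟨Nat.prime_two⟩
  by_contra hn
  have hnA : ∀ a ∈ A, a ≠ 1 → Subgroup.centralizer ({a} : Set G) ≠ ⊤ :=
    fun a ha h1 => hnc a h1 (mul_self_of_mem hA ha)
  have h2 := not_two_group hO hA hsc hne hnA
  have hr := hc.resolve_left h2
  have h16 := sixteen_le hr h2
  obtain ⟨H, hH, hNH, hCH⟩ := hb.exists_proper hO hA hsc hc (by omega) hn hnA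
  have hhold : Holds A H := ⟨hA, hsc, hc, hNH, hCH⟩
  obtain ⟨a, ha, a', ha', ha1, ha'1, hdiff⟩ := two_classes hA hr h16
  refine hH (top_le_iff.1 fun g _ => ?_)
  set b := g * a' * g⁻¹ with hbdef
  have hconj : ∀ t : G, t * b * t⁻¹ ≠ a := by
    intro t e
    have he : t * g * a' * (t * g)⁻¹ = a := by rw [← e, hbdef]; group
    obtain ⟨n, hn', hne'⟩ := hsc.fuse hA.1 ha' (he.symm ▸ ha : t * g * a' * (t * g)⁻¹ ∈ A)
    refine hdiff n⁻¹ (inv_mem hn') ?_
    rw [← he, ← hne']; group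
  have hoa := orderOf_of_mem hA ha ha1
  have hob : orderOf b = 2 := (orderOf_injective (MulAut.conj g).toMonoidHom (MulAut.conj g).injective a').trans
    (orderOf_of_mem hA ha' ha'1)
  obtain ⟨m, hm⟩ : Even (orderOf (a * b)) := by
    rw [← Nat.not_odd_iff_even]
    rintro ⟨q, hq⟩
    obtain ⟨d, -, hd⟩ := exists_conj_invol hoa hob (-(q : ℤ))
    refine hconj d⁻¹ ?_
    have h1 : (a * b) ^ (2 * -(q : ℤ)) = a * b := by
      have h3 : (a * b) ^ ((2 * q + 1 : ℕ) : ℤ) = 1 := by rw [zpow_natCast, ← hq, pow_orderOf_eq_one]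
      rw [show 2 * -(q : ℤ) = -((2 * q + 1 : ℕ) : ℤ) + 1 by push_cast; ring, zpow_add, zpow_neg, h3, inv_one,
        one_mul, zpow_one]
    rw [h1, ← mul_assoc, invol_mul_self hoa, one_mul] at hd
    rw [← hd]; group
  set c := (a * b) ^ m with hc'
  have hc2 : c * c = 1 := by rw [hc', ← pow_add, ← hm, pow_orderOf_eq_one]
  have hc1 : c ≠ 1 := fun e => by
    have hpos := orderOf_pos (a * b)
    have := Nat.le_of_dvd (by omega) (orderOf_dvd_of_pow_eq_one e)
    omega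
  have hac : a * c = c * a := by
    have h1 := invol_conj_zpow hoa hob (m : ℤ)
    rw [zpow_neg, zpow_natCast, ← hc', inv_eq_of_mul_eq_one_right hc2, mul_inv_eq_iff_eq_mul] at h1
    exact h1
  have hbc : b * c = c * b := by
    have h1 : Commute (a * b) c := Commute.self_pow _ _
    have hab : b = a * (a * b) := by rw [← mul_assoc, invol_mul_self hoa, one_mul]
    rw [hab]
    exact ((show Commute a c from hac).mul_left h1).eq
  have hbH : b ∈ H := mem_of_commute_invol hb hhold hnc ha ha1 ha' ha'1 hc2 hc1 hac hbc hconj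
  have hAH : A ≤ H := Subgroup.le_normalizer.trans hNH
  obtain ⟨T, hT, hAT⟩ := exists_sylIn_ge hsc.isPGroup hAH
  obtain ⟨S, hS⟩ := hT.isPGroup.exists_le_sylow
  obtain ⟨x, hx, hxT⟩ := hT.conj_le (IsPGroup.of_card (n := 1) (by rw [Nat.card_zpowers, hob]; rfl))
    (Subgroup.zpowers_le.2 hbH)
  have h3 : x * g * a' * (x * g)⁻¹ ∈ (S : Subgroup G) := by
    have := hS (hxT (conj_mem_cj (Subgroup.mem_zpowers b)))
    rwa [show x * b * x⁻¹ = x * g * a' * (x * g)⁻¹ by rw [hbdef]; group] at this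
  obtain ⟨n, hn', hne'⟩ := hsc.fuse hA.1 ha' ((hsc.closed_in (hAT.trans hS)).2 a' ha' _ h3)
  have h4 : n⁻¹ * (x * g) ∈ Subgroup.centralizer ({a'} : Set G) := by
    rw [Subgroup.mem_centralizer_singleton_iff]
    calc n⁻¹ * (x * g) * a' = n⁻¹ * (x * g * a' * (x * g)⁻¹) * (x * g) := by group
      _ = n⁻¹ * (n * a' * n⁻¹) * (x * g) := by rw [hne']
      _ = a' * (n⁻¹ * (x * g)) := by group
  have h5 := H.mul_mem (H.inv_mem hx) (H.mul_mem (hNH hn') (hCH a' ha' ha'1 h4))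
  rwa [show x⁻¹ * (n * (n⁻¹ * (x * g))) = g by group] at h5

end Cfsg.Agent.Local.SCA
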